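import Mathlib
import Cfsg.Agent.H40.Mono.Tables

/-!
The group `3³ : S₄` of signed axis rotations with translations.
-/

set_option autoImplicit false

namespace Cfsg.Agent.H40.Mono

abbrev V := ZMod 3 × ZMod 3 × ZMod 3

/-- A rotation of the cube. -/
structure C where
  i : Fin 24
deriving DecidableEq

instance : Fintype C :=
  Fintype.ofEquiv (Fin 24) ⟨fun i => ⟨i⟩, fun c => c.i, fun _ => rfl, fun _ => rfl⟩

instance : One C := ⟨⟨0⟩⟩
instance : Mul C := ⟨fun a b => ⟨(mulTable.getD a.i.val []).getD b.i.val 0⟩⟩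
instance : Inv C := ⟨fun a => ⟨invTable.getD a.i.val 0⟩⟩

theorem C.assoc : ∀ a b c : C, a * b * c = a * (b * c) := by decide +kernel
theorem C.one_mul' : ∀ a : C, 1 * a = a := by decide +kernel
theorem C.mul_one' : ∀ a : C, a * 1 = a := by decide +kernel
theorem C.inv_mul' : ∀ a : C, a⁻¹ * a = 1 := by decide +kernel

instance : Group C where
  mul_assoc := C.assoc
  one_mul := C.one_mul'
  mul_one := C.mul_one'
  inv_mul_cancel := C.inv_mul'

/-- The image of an axis. -/
def ax (c : C) (j : Fin 3) : Fin 3 := (axisTable.getD c.i.val []).getD j.val 0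

/-- The sign at an image axis. -/
def sg (c : C) (j : Fin 3) : ZMod 3 := (signTable.getD c.i.val []).getD j.val 0

/-- A coordinate. -/
def comp (v : V) : Fin 3 → ZMod 3 := ![v.1, v.2.1, v.2.2]

theorem ext_comp {v w : V} (h : ∀ j, comp v j = comp w j) : v = w :=
  Prod.ext (h 0) (Prod.ext (h 1) (h 2))

theorem comp_mk (f : Fin 3 → ZMod 3) (j : Fin 3) : comp (f 0, f 1, f 2) j = f j := by
  fin_cases j <;> rfl

theorem comp_add (v w : V) (j : Fin 3) : comp (v + w) j = comp v j + comp w j := by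
  fin_cases j <;> rfl

/-- The monomial action. -/
def act (c : C) (v : V) : V :=
  (sg c 0 * comp v (ax c⁻¹ 0), sg c 1 * comp v (ax c⁻¹ 1), sg c 2 * comp v (ax c⁻¹ 2))

theorem comp_act (c : C) (v : V) (j : Fin 3) : comp (act c v) j = sg c j * comp v (ax c⁻¹ j) :=
  comp_mk (fun j => sg c j * comp v (ax c⁻¹ j)) j

theorem sg_mul : ∀ (c d : C) (j : Fin 3), sg (c * d) j = sg c j * sg d (ax c⁻¹ j) := by
  decide +kernel
theorem ax_mul : ∀ (c d : C) (j : Fin 3), ax (c * d) j = ax c (ax d j) := by decide +kernel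
theorem ax_one : ∀ j, ax 1 j = j := by decide +kernel
theorem sg_one : ∀ j, sg 1 j = 1 := by decide +kernel

theorem ax_inv_apply (c : C) (j : Fin 3) : ax c⁻¹ (ax c j) = j := by
  rw [← ax_mul, inv_mul_cancel, ax_one]

theorem act_one (v : V) : act 1 v = v := ext_comp fun j => by
  rw [comp_act, sg_one, inv_one, ax_one, one_mul]

theorem act_mul (c d : C) (v : V) : act (c * d) v = act c (act d v) := ext_comp fun j => by
  rw [comp_act, comp_act, comp_act, sg_mul, mul_inv_rev, ax_mul, mul_assoc]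

theorem act_add (c : C) (v w : V) : act c (v + w) = act c v + act c w := ext_comp fun j => by
  rw [comp_add, comp_act, comp_act, comp_act, comp_add, mul_add]

theorem act_zero (c : C) : act c 0 = 0 := by
  have := act_add c 0 0
  rw [add_zero] at this
  exact left_eq_add.mp this

theorem act_neg (c : C) (v : V) : act c (-v) = -act c v := by
  have := act_add c v (-v)
  rw [add_neg_cancel, act_zero] at this
  exact (neg_eq_of_add_eq_zero_right this.symm).symm

/-- An element of the model. -/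
@[ext] structure K where
  v : V
  r : C
deriving DecidableEq

instance : Fintype K :=
  Fintype.ofEquiv (V × C) ⟨fun p => ⟨p.1, p.2⟩, fun k => (k.v, k.r), fun _ => rfl, fun _ => rfl⟩

instance : One K := ⟨⟨0, 1⟩⟩
instance : Mul K := ⟨fun a b => ⟨a.v + act a.r b.v, a.r * b.r⟩⟩
instance : Inv K := ⟨fun a => ⟨-act a.r⁻¹ a.v, a.r⁻¹⟩⟩

theorem K.mul_v (a b : K) : (a * b).v = a.v + act a.r b.v := rfl
theorem K.mul_r (a b : K) : (a * b).r = a.r * b.r := rfl

instance : Group K where
  mul_assoc a b c := K.ext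
    (show a.v + act a.r b.v + act (a.r * b.r) c.v = a.v + act a.r (b.v + act b.r c.v) by
      rw [act_mul, act_add, add_assoc])
    (show a.r * b.r * c.r = a.r * (b.r * c.r) from mul_assoc _ _ _)
  one_mul a := K.ext (show (0 : V) + act 1 a.v = a.v by rw [act_one, zero_add]) (one_mul a.r)
  mul_one a := K.ext (show a.v + act a.r 0 = a.v by rw [act_zero, add_zero]) (mul_one a.r)
  inv_mul_cancel a := K.ext
    (show -act a.r⁻¹ a.v + act a.r⁻¹ a.v = 0 by rw [neg_add_cancel]) (inv_mul_cancel a.r)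

/-- The translation by `v`. -/
def tr (v : V) : K := ⟨v, 1⟩

/-- The rotation `c`. -/
def rot (c : C) : K := ⟨0, c⟩

theorem tr_mul (v w : V) : tr v * tr w = tr (v + w) :=
  K.ext (show v + act 1 w = v + w by rw [act_one]) (one_mul 1)

theorem tr_mul_rot (k : K) : tr k.v * rot k.r = k :=
  K.ext (show k.v + act 1 0 = k.v by rw [act_zero, add_zero]) (one_mul k.r)

/-- The translations. -/
def trans : Subgroup K where
  carrier := {k | k.r = 1}
  one_mem' := rfl
  mul_mem' := fun {a b} ha hb => by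
    show a.r * b.r = 1
    rw [show a.r = 1 from ha, show b.r = 1 from hb, one_mul]
  inv_mem' := fun {a} ha => by
    show a.r⁻¹ = 1
    rw [show a.r = 1 from ha, inv_one]

theorem mem_trans {k : K} : k ∈ trans ↔ k.r = 1 := Iff.rfl

instance : DecidablePred (· ∈ trans) := fun k => inferInstanceAs (Decidable (k.r = 1))

/-- The element with code `n`. -/
def decode (n : ℕ) : K :=
  ⟨(((n / 24 / 9 : ℕ) : ZMod 3), ((n / 24 / 3 : ℕ) : ZMod 3), ((n / 24 : ℕ) : ZMod 3)),
    ⟨Fin.ofNat 24 n⟩⟩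

/-- The number of a translation. -/
def vcode (v : V) : ℕ := 9 * v.1.val + 3 * v.2.1.val + v.2.2.val

/-- The conjugacy class number. -/
def cls (k : K) : Fin 14 := Fin.ofNat 14 ((clsTable.getD k.r.i.val []).getD (vcode k.v) 0)

/-- An element conjugating the representative to `k`. -/
def wit (k : K) : K := decode ((conjTable.getD k.r.i.val []).getD (vcode k.v) 0)

/-- Representatives of the classes. -/
def rep : Fin 14 → K :=
  ![rot ⟨0⟩, rot ⟨1⟩, rot ⟨6⟩, rot ⟨4⟩, rot ⟨12⟩, ⟨(0, 0, 1), ⟨0⟩⟩, ⟨(0, 0, 1), ⟨1⟩⟩,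
    ⟨(0, 0, 1), ⟨4⟩⟩, ⟨(0, 0, 1), ⟨10⟩⟩, ⟨(0, 0, 1), ⟨9⟩⟩, ⟨(0, 0, 1), ⟨13⟩⟩, ⟨(0, 0, 1), ⟨12⟩⟩,
    tr (0, 1, 1), tr (1, 1, 1)]

/-- Sizes of the classes. -/
def size : Fin 14 → ℕ := ![1, 27, 54, 54, 72, 6, 54, 108, 54, 54, 72, 72, 12, 8]

theorem conj_rep : ∀ k : K, wit k * rep (cls k) * (wit k)⁻¹ = k := by decide +kernel
theorem cls_rep : ∀ j, cls (rep j) = j := by decide +kernel
theorem card_cls : ∀ j, (Finset.univ.filter fun k : K => cls k = j).card = size j := by
  decide +kernel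
theorem card_K : Fintype.card K = 648 := by decide +kernel

theorem sum_cls {M : Type*} [AddCommMonoid M] (F : Fin 14 → M) :
    ∑ k : K, F (cls k) = ∑ j, size j • F j := by
  rw [← Finset.sum_fiberwise Finset.univ cls]
  refine Finset.sum_congr rfl fun j _ => ?_
  rw [Finset.sum_congr rfl fun k hk => by rw [(Finset.mem_filter.mp hk).2], Finset.sum_const,
    card_cls]

theorem involution_cls : ∀ k : K, k * k = 1 → k ≠ 1 → cls k = 1 ∨ cls k = 3 := by decide +kernel
theorem cls_one : ∀ k : K, cls k = 0 → k = 1 := by decide +kernel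

/-- The exponent taking a singular element into the translations. -/
def expo : Fin 14 → ℕ := ![0, 0, 0, 0, 0, 1, 2, 2, 4, 4, 3, 3, 1, 1]

theorem pow_trans : ∀ k : K, 5 ≤ cls k → (k ^ expo (cls k)).r = 1 ∧ k ^ expo (cls k) ≠ 1 := by
  decide +kernel
theorem cls_inv : ∀ k : K, 5 ≤ cls k → 5 ≤ cls k⁻¹ := by decide +kernel
theorem cls_inv_six : ∀ j : Fin 14, j = 6 ∨ j = 7 → cls (rep j)⁻¹ = j := by decide +kernel
theorem order_six : rep 6 ^ 6 = 1 ∧ cls (rep 6 ^ 3) = 1 ∧ rep 7 ^ 6 = 1 ∧ cls (rep 7 ^ 3) = 3 := by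
  decide +kernel
theorem rep_sq : rep 1 * rep 1 = 1 ∧ rep 3 * rep 3 = 1 := by decide +kernel
theorem rep_ne_one : rep 1 ≠ 1 ∧ rep 3 ≠ 1 := by decide +kernel
theorem cube_trans : ∀ v : V, tr v * tr v * tr v = 1 := by decide +kernel

theorem card_cent_axis : ∀ v : V, v ≠ 0 →
    (Finset.univ.filter fun k : K => k * tr v = tr v * k).card = 108 → cls (tr v) = 5 := by
  decide +kernel
theorem card_cent_five : (Finset.univ.filter fun k : K => k * rep 5 = rep 5 * k).card = 108 := by
  decide +kernel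
theorem axes_five : cls (tr (1, 0, 0)) = 5 ∧ cls (tr (0, 1, 0)) = 5 ∧ cls (tr (0, 0, 1)) = 5 := by
  decide +kernel

/-- The action on the nine points. -/
def nine (k : K) (p : Fin 3 × ZMod 3) : Fin 3 × ZMod 3 :=
  (ax k.r p.1, sg k.r (ax k.r p.1) * p.2 + comp k.v (ax k.r p.1))

theorem nine_one (p : Fin 3 × ZMod 3) : nine 1 p = p := by
  obtain ⟨i, x⟩ := p
  show (ax 1 i, sg 1 (ax 1 i) * x + comp 0 (ax 1 i)) = (i, x)
  rw [sg_one, ax_one, one_mul, show comp 0 i = 0 by fin_cases i <;> rfl, add_zero]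

theorem nine_mul (a b : K) (p : Fin 3 × ZMod 3) : nine (a * b) p = nine a (nine b p) := by
  simp only [nine, K.mul_r, K.mul_v, ax_mul, sg_mul, comp_add, comp_act, ax_inv_apply]
  refine Prod.ext rfl ?_
  show _ = _
  ring

end Cfsg.Agent.H40.Mono
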