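import Mathlib
import Cfsg.Agent.H40.Mono.Model

/-!
Nine combinations of irreducible characters of the model and their values.
-/

set_option autoImplicit false

namespace Cfsg.Agent.H40.Mono

/-- Integers of the twelfth cyclotomic field in the power basis. -/
abbrev Z4 := ℤ × ℤ × ℤ × ℤ

/-- The weight vectors. -/
def wt : Fin 3 → V := ![(1, 0, 0), (1, 1, 0), (1, 1, 1)]

/-- The stabilisers, as lists of the powers of a generator. -/
def stab : Fin 3 → List (Fin 24) := ![[0, 7, 3, 6], [0, 11], [0, 15, 19]]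

/-- Representatives of the cosets of the stabilisers. -/
def reps : Fin 3 → List (Fin 24) :=
  ![[0, 1, 8, 9, 16, 17], [0, 1, 2, 3, 4, 5, 6, 7, 12, 13, 14, 15], [0, 1, 2, 3, 4, 5, 6, 7]]

/-- Membership of the stabiliser. -/
def inStab (f : Fin 3) (c : C) : Bool := (stab f).contains c.i

/-- The pairing with the weight. -/
def pairing (f : Fin 3) (v : V) : ZMod 3 :=
  (wt f).1 * v.1 + (wt f).2.1 * v.2.1 + (wt f).2.2 * v.2.2

/-- The embedding of the residues modulo three. -/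
def four12 (x : ZMod 3) : ZMod 12 := ((4 * x.val : ℕ) : ZMod 12)

/-- The exponent of the linear character. -/
def expnt (f : Fin 3) (m : ℕ) (k : K) : ZMod 12 :=
  four12 (pairing f k.v) +
    ((m * ((12 / (stab f).length) * (stab f).idxOf k.r.i) : ℕ) : ZMod 12)

/-- Powers of the root of unity. -/
def zpw : ZMod 12 → Z4 :=
  ![(1, 0, 0, 0), (0, 1, 0, 0), (0, 0, 1, 0), (0, 0, 0, 1), (-1, 0, 1, 0), (0, -1, 0, 1),
    (-1, 0, 0, 0), (0, -1, 0, 0), (0, 0, -1, 0), (0, 0, 0, -1), (1, 0, -1, 0), (0, 1, 0, -1)]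

/-- One coset's contribution. -/
def indTerm (f : Fin 3) (m : ℕ) (k : K) (i : Fin 24) : Z4 :=
  let x := (rot ⟨i⟩)⁻¹ * k * rot ⟨i⟩
  if inStab f x.r then zpw (expnt f m x) else 0

/-- The induced character. -/
def indZ (f : Fin 3) (m : ℕ) (k : K) : Z4 := ((reps f).map (indTerm f m k)).sum

/-- The diagonals. -/
def fourTable : List (List (Fin 4)) :=
  [[0, 1, 2, 3], [1, 0, 3, 2], [2, 3, 0, 1], [3, 2, 1, 0], [0, 2, 1, 3], [3, 1, 2, 0], [2, 0, 3, 1],
    [1, 3, 0, 2], [0, 1, 3, 2], [3, 2, 0, 1], [2, 3, 1, 0], [1, 0, 2, 3], [1, 2, 0, 3], [2, 1, 3, 0],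
    [3, 0, 2, 1], [0, 3, 1, 2], [1, 3, 2, 0], [2, 0, 1, 3], [3, 1, 0, 2], [0, 2, 3, 1], [0, 3, 2, 1],
    [3, 0, 1, 2], [2, 1, 0, 3], [1, 2, 3, 0]]

/-- The action on the diagonals. -/
def diag (c : C) (j : Fin 4) : Fin 4 := (fourTable.getD c.i.val []).getD j.val 0

/-- The parity. -/
def par (c : C) : ℤ :=
  [1, 1, 1, 1, -1, -1, -1, -1, -1, -1, -1, -1, 1, 1, 1, 1, 1, 1, 1, 1, -1, -1, -1, -1].getD c.i.val 0

theorem diag_one : ∀ j, diag 1 j = j := by decide +kernel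
theorem diag_mul : ∀ (c d : C) j, diag (c * d) j = diag c (diag d j) := by decide +kernel
theorem par_mul : ∀ c d : C, par (c * d) = par c * par d := by decide +kernel
theorem par_sq : ∀ c : C, par c * par c = 1 := by decide +kernel

def fixAxes (k : K) : ℕ := Fintype.card {j : Fin 3 // ax k.r j = j}
def fixDiag (k : K) : ℕ := Fintype.card {j : Fin 4 // diag k.r j = j}

def chTwo (k : K) : ℤ := fixAxes k - 1
def chThree (k : K) : ℤ := fixDiag k - 1
def chThreeS (k : K) : ℤ := par k.r * chThree k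

/-- An integer in the power basis. -/
def ofZ (n : ℤ) : Z4 := (n, 0, 0, 0)

/-- The nine combinations. -/
def comb : Fin 9 → K → Z4 :=
  ![fun k => indZ 2 1 k - indZ 2 2 k,
    fun k => indZ 0 1 k - indZ 0 3 k,
    fun k => indZ 0 1 k - indZ 2 1 k + ofZ (chTwo k),
    fun k => indZ 0 1 k - ofZ (chThree k) - ofZ (chThreeS k),
    fun k => ofZ 1 + indZ 0 1 k - indZ 2 0 k + ofZ (par k.r),
    fun k => ofZ 1 - indZ 0 0 k + indZ 2 1 k - ofZ (chThree k),
    fun k => ofZ 1 - indZ 1 0 k + indZ 2 1 k + ofZ (chThree k),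
    fun k => indZ 1 1 k - indZ 2 1 k - ofZ (par k.r) - ofZ (chThreeS k),
    fun k => indZ 0 2 k - indZ 2 1 k - ofZ (par k.r) + ofZ (chThreeS k)]

/-- The values on the classes, in the form `a + b√3`. -/
def valT : Fin 9 → Fin 14 → ℤ × ℤ :=
  ![![0, 0, 0, 0, 0, 0, 0, 0, 0, 0, (-3, 0), (3, 0), 0, 0],
    ![0, 0, 0, 0, 0, 0, 0, 0, (0, -2), (0, 2), 0, 0, 0, 0],
    ![0, 0, 0, 0, 0, (9, 0), (3, 0), 0, (0, -1), (0, 1), 0, (-3, 0), 0, 0],
    ![0, 0, 0, 0, 0, (-3, 0), (3, 0), 0, (0, -1), (0, 1), 0, 0, (-6, 0), (-9, 0)],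
    ![0, 0, 0, 0, 0, (9, 0), (3, 0), 0, (0, -1), (0, 1), (3, 0), (3, 0), 0, 0],
    ![0, 0, 0, 0, 0, (-9, 0), (3, 0), 0, (3, 0), (3, 0), 0, (3, 0), 0, 0],
    ![0, 0, 0, 0, 0, 0, 0, (3, 0), 0, 0, 0, (3, 0), (9, 0), 0],
    ![0, 0, 0, 0, 0, 0, 0, (3, 0), 0, 0, 0, (-3, 0), (-9, 0), 0],
    ![0, 0, 0, 0, 0, (9, 0), (-3, 0), 0, (3, 0), (3, 0), 0, (-3, 0), 0, 0]]

/-- `a + b√3` in the power basis. -/
def emb (p : ℤ × ℤ) : Z4 := (p.1, 2 * p.2, 0, -p.2)

theorem comb_eq_zero : ∀ k, comb 0 k = emb (valT 0 (cls k)) := by decide +kernel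
theorem comb_eq_one : ∀ k, comb 1 k = emb (valT 1 (cls k)) := by decide +kernel
theorem comb_eq_two : ∀ k, comb 2 k = emb (valT 2 (cls k)) := by decide +kernel
theorem comb_eq_three : ∀ k, comb 3 k = emb (valT 3 (cls k)) := by decide +kernel
theorem comb_eq_four : ∀ k, comb 4 k = emb (valT 4 (cls k)) := by decide +kernel
theorem comb_eq_five : ∀ k, comb 5 k = emb (valT 5 (cls k)) := by decide +kernel
theorem comb_eq_six : ∀ k, comb 6 k = emb (valT 6 (cls k)) := by decide +kernel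
theorem comb_eq_seven : ∀ k, comb 7 k = emb (valT 7 (cls k)) := by decide +kernel
theorem comb_eq_eight : ∀ k, comb 8 k = emb (valT 8 (cls k)) := by decide +kernel

theorem comb_eq : ∀ t k, comb t k = emb (valT t (cls k)) := by
  intro t
  fin_cases t
  exacts [comb_eq_zero, comb_eq_one, comb_eq_two, comb_eq_three, comb_eq_four, comb_eq_five,
    comb_eq_six, comb_eq_seven, comb_eq_eight]

end Cfsg.Agent.H40.Mono
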