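import Mathlib
import Cfsg.Agent.H40.Mono.Values
import Cfsg.Agent.H40.Wreath.Chars
import Cfsg.Agent.Lib.CharInd.Char
import Cfsg.Agent.Lib.CharCore.Virtual
import Cfsg.Agent.Lib.CharCore.Linear

/-!
The nine combinations are generalized characters.
-/

set_option autoImplicit false

namespace Cfsg.Agent.H40.Mono

open Complex

/-- The square root of three. -/
noncomputable def s3 : ℂ := (Real.sqrt 3 : ℂ)

theorem s3_sq : s3 * s3 = 3 := by
  rw [s3, ← Complex.ofReal_mul, Real.mul_self_sqrt (by norm_num : (0 : ℝ) ≤ 3)]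
  norm_num

theorem conj_s3 : (starRingEnd ℂ) s3 = s3 := Complex.conj_ofReal _

/-- A primitive twelfth root of unity. -/
noncomputable def ze : ℂ := (s3 + I) / 2

theorem ze_four : ze ^ 4 = ze ^ 2 - 1 := by
  have h1 := s3_sq
  have h2 : I * I = -1 := I_mul_I
  have h : ze ^ 2 = (1 + s3 * I) / 2 := by
    unfold ze
    linear_combination (1 / 4 : ℂ) * h1 + (1 / 4 : ℂ) * h2
  rw [show ze ^ 4 = ze ^ 2 * ze ^ 2 by ring, h]
  linear_combination (I * I / 4) * h1 + (3 / 4 : ℂ) * h2

/-- The value of an element of the power basis. -/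
noncomputable def toC (x : Z4) : ℂ :=
  (x.1 : ℂ) + x.2.1 * ze + x.2.2.1 * ze ^ 2 + x.2.2.2 * ze ^ 3

theorem toC_add (x y : Z4) : toC (x + y) = toC x + toC y := by
  simp only [toC, Prod.fst_add, Prod.snd_add, Int.cast_add]
  ring

theorem toC_sub (x y : Z4) : toC (x - y) = toC x - toC y := by
  simp only [toC, Prod.fst_sub, Prod.snd_sub, Int.cast_sub]
  ring

theorem toC_zero : toC 0 = 0 := by simp [toC]

theorem toC_list_sum (l : List Z4) : toC l.sum = (l.map toC).sum := by
  induction l with
  | nil => simp [toC_zero]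
  | cons a l ih => simp [toC_add, ih]

theorem toC_ofZ (n : ℤ) : toC (ofZ n) = n := by simp [toC, ofZ]

theorem toC_emb (p : ℤ × ℤ) : toC (emb p) = p.1 + p.2 * s3 := by
  have h2 : I * I = -1 := I_mul_I
  simp only [toC, emb, ze]
  push_cast
  linear_combination -((p.2 : ℂ) * (s3 + 3 * I) / 8) * s3_sq - ((p.2 : ℂ) * (3 * s3 + I) / 8) * h2

/-- Multiplication by the root. -/
def zmulGen (x : Z4) : Z4 := (-x.2.2.2, x.1, x.2.1 + x.2.2.2, x.2.2.1)

theorem toC_zmulGen (x : Z4) : toC (zmulGen x) = ze * toC x := by
  simp only [toC, zmulGen]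
  push_cast
  linear_combination -(x.2.2.2 : ℂ) * ze_four

theorem zpw_succ : ∀ n : ZMod 12, zpw (n + 1) = zmulGen (zpw n) := by decide

theorem toC_zpw : ∀ j : ℕ, toC (zpw (j : ZMod 12)) = ze ^ j := by
  intro j
  induction j with
  | zero => simp [toC, zpw]
  | succ j ih => rw [Nat.cast_succ, zpw_succ, toC_zmulGen, ih]; ring

theorem ze_twelve : ze ^ 12 = 1 := by
  linear_combination (ze ^ 8 + ze ^ 6 - ze ^ 2 - 1) * ze_four

theorem four12_add : ∀ x y, four12 (x + y) = four12 x + four12 y := by decide

/-- The subgroup inducing the characters of a family. -/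
def grp (f : Fin 3) : Subgroup K where
  carrier := {k | inStab f k.r = true}
  one_mem' := by
    show inStab f (1 : C) = true
    revert f; decide
  mul_mem' := fun {a b} ha hb => by
    have key : ∀ (f : Fin 3) (c d : C), inStab f c = true → inStab f d = true →
        inStab f (c * d) = true := by decide +kernel
    exact key f a.r b.r ha hb
  inv_mem' := fun {a} ha => by
    have key : ∀ (f : Fin 3) (c : C), inStab f c = true → inStab f c⁻¹ = true := by decide +kernel
    exact key f a.r ha

theorem mem_grp {f : Fin 3} {k : K} : k ∈ grp f ↔ inStab f k.r = true := Iff.rfl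

instance (f : Fin 3) : DecidablePred (· ∈ grp f) := fun k =>
  inferInstanceAs (Decidable (inStab f k.r = true))

theorem pairing_add (f : Fin 3) (v w : V) : pairing f (v + w) = pairing f v + pairing f w := by
  simp only [pairing, Prod.fst_add, Prod.snd_add]
  ring

theorem pairing_act : ∀ (f : Fin 3) (c : C), inStab f c = true → ∀ v : V,
    pairing f (act c v) = pairing f v := by decide +kernel

theorem idx_mul : ∀ (f : Fin 3) (c d : C), inStab f c = true → inStab f d = true →
    (((12 / (stab f).length) * (stab f).idxOf (c * d).i : ℕ) : ZMod 12) =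
      (((12 / (stab f).length) * (stab f).idxOf c.i : ℕ) : ZMod 12) +
        (((12 / (stab f).length) * (stab f).idxOf d.i : ℕ) : ZMod 12) := by decide +kernel

theorem expnt_mul (f : Fin 3) (m : ℕ) (a b : K) (ha : a ∈ grp f) (hb : b ∈ grp f) :
    expnt f m (a * b) = expnt f m a + expnt f m b := by
  simp only [expnt, K.mul_v, K.mul_r, pairing_add, pairing_act f a.r ha, four12_add, Nat.cast_mul m,
    idx_mul f a.r b.r ha hb]
  ring

theorem expnt_one (f : Fin 3) (m : ℕ) : expnt f m 1 = 0 := by
  have h := expnt_mul f m 1 1 (grp f).one_mem (grp f).one_mem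
  rw [one_mul] at h
  exact left_eq_add.mp h

theorem ze_pow_val_add (x y : ZMod 12) : ze ^ (x + y).val = ze ^ x.val * ze ^ y.val := by
  rw [ZMod.val_add, ← pow_eq_pow_mod _ ze_twelve, pow_add]

/-- The linear character. -/
noncomputable def lin (f : Fin 3) (m : ℕ) : grp f →* ℂˣ where
  toFun k := ⟨ze ^ (expnt f m k).val, ze ^ (-expnt f m k).val,
    by rw [← ze_pow_val_add, add_neg_cancel]; simp,
    by rw [← ze_pow_val_add, neg_add_cancel]; simp⟩
  map_one' := Units.ext (by simp [expnt_one])
  map_mul' a b := Units.ext (by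
    show ze ^ (expnt f m ((a : K) * b)).val = _
    rw [expnt_mul f m a b a.2 b.2, ze_pow_val_add]
    rfl)

/-- The representatives, indexed. -/
def repAt (f : Fin 3) (i : Fin (reps f).length) : K := rot ⟨(reps f).get i⟩

theorem repAt_cover : ∀ (f : Fin 3) (c : C), ∃ i : Fin (reps f).length,
    inStab f ((⟨(reps f).get i⟩ : C)⁻¹ * c) = true := by decide +kernel

theorem repAt_sep : ∀ (f : Fin 3) (i j : Fin (reps f).length),
    inStab f ((⟨(reps f).get i⟩ : C)⁻¹ * ⟨(reps f).get j⟩) = true → i = j := by decide +kernel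

theorem repAt_bijective (f : Fin 3) :
    Function.Bijective fun i => (repAt f i : K ⧸ grp f) := by
  refine ⟨fun i j h => repAt_sep f i j ?_, fun q => ?_⟩
  · exact QuotientGroup.eq.mp h
  · induction q using QuotientGroup.induction_on with
    | H k =>
      obtain ⟨i, hi⟩ := repAt_cover f k.r
      exact ⟨i, QuotientGroup.eq.mpr hi⟩

theorem indFun_lin (f : Fin 3) (m : ℕ) (k : K) :
    Cfsg.indFun (grp f) (fun h => (lin f m h : ℂ)) k = toC (indZ f m k) := by
  classical
  haveI : Fintype (K ⧸ grp f) := Fintype.ofFinite _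
  set e := Equiv.ofBijective _ (repAt_bijective f)
  rw [CharInd.indFun_apply_cosets
    (CharCore.IsGeneralizedCharacter.isClassFunction
      (CharCore.irr_isGeneralized ⟨_, CharCore.isIrrCharacter_hom (lin f m)⟩))
    (fun q => repAt f (e.symm q)) (fun q => e.apply_symm_apply q),
    ← e.sum_comp, indZ, toC_list_sum, List.map_map]
  simp only [Equiv.symm_apply_apply]
  rw [← List.ofFn_getElem_eq_map, List.sum_ofFn]
  refine Finset.sum_congr rfl fun i _ => ?_
  simp only [Function.comp, indTerm]
  by_cases h : (repAt f i)⁻¹ * k * repAt f i ∈ grp f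
  · rw [CharInd.extendByZero_mem _ h, if_pos (by exact h)]
    show ze ^ (expnt f m _).val = toC (zpw _)
    rw [← toC_zpw, ZMod.natCast_rightInverse.eq]
    rfl
  · rw [CharInd.extendByZero_notMem _ h, if_neg (by exact h), toC_zero]

theorem isGeneralized_ind (f : Fin 3) (m : ℕ) :
    Cfsg.IsGeneralizedCharacter K (fun k => toC (indZ f m k)) := by
  have h := CharInd.isGeneralizedCharacter_indFun (grp f)
    (CharCore.irr_isGeneralized ⟨_, CharCore.isIrrCharacter_hom (lin f m)⟩)
  convert h using 1
  exact funext fun k => (indFun_lin f m k).symm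

/-- The parity as a homomorphism. -/
noncomputable def parHom : C →* ℂˣ where
  toFun c := ⟨(par c : ℂ), (par c : ℂ), by exact_mod_cast par_sq c, by exact_mod_cast par_sq c⟩
  map_one' := Units.ext (by norm_num [show par 1 = 1 from rfl])
  map_mul' a b := Units.ext (by simp [par_mul])

/-- The projection to the rotations. -/
def rotHom : K →* C where
  toFun k := k.r
  map_one' := rfl
  map_mul' _ _ := rfl

theorem isGeneralized_par : Cfsg.IsGeneralizedCharacter K (fun k => (par k.r : ℂ)) :=
  CharCore.irr_isGeneralized ⟨_, CharCore.isIrrCharacter_hom (parHom.comp rotHom)⟩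

theorem isGeneralized_chTwo : Cfsg.IsGeneralizedCharacter K (fun k => (chTwo k : ℂ)) := by
  have h := CharCore.isGeneralized_sub
    (Wreath.isGeneralized_fix (fun (k : K) (j : Fin 3) => ax k.r j) ax_one
      fun g h j => ax_mul g.r h.r j) (CharCore.isGeneralized_one (G := K))
  convert h using 1
  funext k
  simp [chTwo, fixAxes]

theorem isGeneralized_chThree : Cfsg.IsGeneralizedCharacter K (fun k => (chThree k : ℂ)) := by
  have h := CharCore.isGeneralized_sub
    (Wreath.isGeneralized_fix (fun (k : K) (j : Fin 4) => diag k.r j) diag_one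
      fun g h j => diag_mul g.r h.r j) (CharCore.isGeneralized_one (G := K))
  convert h using 1
  funext k
  simp [chThree, fixDiag]

theorem isGeneralized_chThreeS : Cfsg.IsGeneralizedCharacter K (fun k => (chThreeS k : ℂ)) := by
  convert CharCore.isGeneralized_mul isGeneralized_par isGeneralized_chThree using 1
  funext k
  simp [chThreeS]

/-- The value of a class function of the table. -/
noncomputable def phi (t : Fin 9) (k : K) : ℂ := (valT t (cls k)).1 + (valT t (cls k)).2 * s3

theorem isGeneralized_phi (t : Fin 9) : Cfsg.IsGeneralizedCharacter K (phi t) := by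
  have h : phi t = fun k => toC (comb t k) := funext fun k => by rw [comb_eq, toC_emb]; rfl
  rw [h]
  have one : Cfsg.IsGeneralizedCharacter K (fun k => toC (ofZ 1)) := by
    convert CharCore.isGeneralized_one (G := K) using 1
    funext k
    simp [toC_ofZ]
  have p : Cfsg.IsGeneralizedCharacter K (fun k => toC (ofZ (par k.r))) := by
    simpa only [toC_ofZ] using isGeneralized_par
  have two : Cfsg.IsGeneralizedCharacter K (fun k => toC (ofZ (chTwo k))) := by
    simpa only [toC_ofZ] using isGeneralized_chTwo
  have three : Cfsg.IsGeneralizedCharacter K (fun k => toC (ofZ (chThree k))) := by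
    simpa only [toC_ofZ] using isGeneralized_chThree
  have threeS : Cfsg.IsGeneralizedCharacter K (fun k => toC (ofZ (chThreeS k))) := by
    simpa only [toC_ofZ] using isGeneralized_chThreeS
  have W := isGeneralized_ind
  have add := @CharCore.isGeneralized_add K _
  have sub := @CharCore.isGeneralized_sub K _
  fin_cases t <;> simp only [comb, Fin.isValue, Fin.zero_eta, Fin.mk_one, Matrix.cons_val_zero,
    Matrix.cons_val_one, Matrix.cons_val, Fin.reduceFinMk, toC_add, toC_sub]
  · exact sub (W 2 1) (W 2 2)
  · exact sub (W 0 1) (W 0 3)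
  · exact add (sub (W 0 1) (W 2 1)) two
  · exact sub (sub (W 0 1) three) threeS
  · exact add (sub (add one (W 0 1)) (W 2 0)) p
  · exact sub (add (sub one (W 0 0)) (W 2 1)) three
  · exact add (add (sub one (W 1 0)) (W 2 1)) three
  · exact sub (sub (sub (W 1 1) (W 2 1)) p) threeS
  · exact add (sub (sub (W 0 2) (W 2 1)) p) threeS

end Cfsg.Agent.H40.Mono
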