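import Cfsg.Agent.H40.Mono.Rows
import Cfsg.Agent.H40.Wreath.Algebra

/-!
The degrees of the common constituents of the nine rows.
-/

set_option autoImplicit false

namespace Cfsg.Agent.H40.Mono

open Wreath (adjForm det2 four_point)

/-- The second moments of the rows. -/
noncomputable def lam : Fin 9 → ℂ × ℂ × ℂ :=
  ![(0, 0, 0), (0, 0, 0), (3, 0, 0), (0, 0, -3), (3, 0, 9), (0, 3, 3), (3 / 2, 3 / 2, 9 / 2),
    (-3 / 2, 3 / 2, -9 / 2), (0, 3, -3)]

variable {ι : Type*} [Fintype ι]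

/-- The combination reading off the value at the axis class. -/
def axisComb (R : Rows ι) (i : ι) : ℤ :=
  4 * R.c 0 i - 3 * R.c 1 i + 2 * R.c 2 i + 4 * R.c 4 i - 3 * R.c 5 i + 3 * R.c 8 i

/-- Two functions on the indices with the prescribed moments. -/
structure Mom (R : Rows ι) where
  g : ℂ
  g_ne : g ≠ 0
  U : ι → ℂ
  W : ι → ℂ
  linU : ∀ t, ∑ i, (R.c t i : ℂ) * R.d i * U i = 0
  linW : ∀ t, ∑ i, (R.c t i : ℂ) * R.d i * W i = 0
  momUU : ∀ t, ∑ i, (R.c t i : ℂ) * R.d i * U i * U i = g * (lam t).1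
  momUW : ∀ t, ∑ i, (R.c t i : ℂ) * R.d i * U i * W i = g * (lam t).2.1
  momWW : ∀ t, ∑ i, (R.c t i : ℂ) * R.d i * W i * W i = g * (lam t).2.2

theorem three_point {g m p0 p1 p2 x0 x1 x2 : ℂ} (s0 : p0 + p1 + p2 = 0)
    (sx : p0 * x0 + p1 * x1 + p2 * x2 = 0)
    (sxx : p0 * x0 * x0 + p1 * x1 * x1 + p2 * x2 * x2 = g * m) :
    (x1 - x0) * (x1 - x0) * (p0 * p1) = g * m * (p0 + p1) := by
  linear_combination (p0 + p1) * sxx + (-p2 * x2 * x2) * s0 +
    (2 * p2 * x2 - (p0 * x0 + p1 * x1 + p2 * x2)) * sx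

namespace Mom

variable {R : Rows ι}

/-- The data after changing signs. -/
def flip (M : Mom R) (σ : ι → ℤ) (hσ : ∀ i, σ i * σ i = 1) (ho : σ R.o = 1) :
    Mom (R.flip σ hσ ho) where
  g := M.g
  g_ne := M.g_ne
  U := M.U
  W := M.W
  linU t := by
    rw [← M.linU t]; refine Finset.sum_congr rfl fun i _ => ?_
    have : ((σ i : ℤ) : ℂ) * (σ i : ℂ) = 1 := by exact_mod_cast hσ i
    simp only [Rows.flip]; push_cast
    linear_combination ((R.c t i : ℂ) * R.d i * M.U i) * this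
  linW t := by
    rw [← M.linW t]; refine Finset.sum_congr rfl fun i _ => ?_
    have : ((σ i : ℤ) : ℂ) * (σ i : ℂ) = 1 := by exact_mod_cast hσ i
    simp only [Rows.flip]; push_cast
    linear_combination ((R.c t i : ℂ) * R.d i * M.W i) * this
  momUU t := by
    rw [← M.momUU t]; refine Finset.sum_congr rfl fun i _ => ?_
    have : ((σ i : ℤ) : ℂ) * (σ i : ℂ) = 1 := by exact_mod_cast hσ i
    simp only [Rows.flip]; push_cast
    linear_combination ((R.c t i : ℂ) * R.d i * M.U i * M.U i) * this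
  momUW t := by
    rw [← M.momUW t]; refine Finset.sum_congr rfl fun i _ => ?_
    have : ((σ i : ℤ) : ℂ) * (σ i : ℂ) = 1 := by exact_mod_cast hσ i
    simp only [Rows.flip]; push_cast
    linear_combination ((R.c t i : ℂ) * R.d i * M.U i * M.W i) * this
  momWW t := by
    rw [← M.momWW t]; refine Finset.sum_congr rfl fun i _ => ?_
    have : ((σ i : ℤ) : ℂ) * (σ i : ℂ) = 1 := by exact_mod_cast hσ i
    simp only [Rows.flip]; push_cast
    linear_combination ((R.c t i : ℂ) * R.d i * M.W i * M.W i) * this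

variable (M : Mom R)

/-- The weight of an index in a row. -/
noncomputable def p (_M : Mom R) (t : Fin 9) (i : ι) : ℂ := (R.c t i : ℂ) * R.d i

/-- The form of a row on two differences. -/
noncomputable def q (t : Fin 9) (i j k l : ι) : ℂ :=
  adjForm (lam t) (M.U i - M.U j) (M.W i - M.W j) (M.U k - M.U l) (M.W k - M.W l)

theorem p_ne {t : Fin 9} {i : ι} (h : R.c t i ≠ 0) : M.p t i ≠ 0 :=
  mul_ne_zero (Int.cast_ne_zero.mpr h) (Int.cast_ne_zero.mpr (R.d_ne i))

theorem sum_supp_p (t : Fin 9) (f : ι → ℂ) :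
    ∑ x, (R.c t x : ℂ) * R.d x * f x = ∑ x ∈ R.supp t, M.p t x * f x := by
  refine (Finset.sum_subset (Finset.subset_univ _) fun i _ hi => ?_).symm
  rw [not_not.mp (fun hne => hi (R.mem_supp.mpr hne)), Int.cast_zero, zero_mul, zero_mul]

theorem three {t : Fin 9} (ht : gram t t = 3) {i j : ι} (hij : i ≠ j) (hi : R.c t i ≠ 0)
    (hj : R.c t j ≠ 0) :
    (M.U j - M.U i) * (M.U j - M.U i) * (M.p t i * M.p t j) =
      M.g * (lam t).1 * (M.p t i + M.p t j) ∧
    (M.W j - M.W i) * (M.W j - M.W i) * (M.p t i * M.p t j) =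
      M.g * (lam t).2.2 * (M.p t i + M.p t j) ∧ M.p t i + M.p t j ≠ 0 := by
  classical
  have hc : ((R.supp t).erase i |>.erase j).card = 1 := by
    have h : (R.supp t).card = 3 := by exact_mod_cast (R.card_supp t).trans ht
    rw [Finset.card_erase_of_mem (Finset.mem_erase.mpr ⟨hij.symm, R.mem_supp.mpr hj⟩),
      Finset.card_erase_of_mem (R.mem_supp.mpr hi), h]
  obtain ⟨k, hk⟩ := Finset.card_eq_one.mp hc
  have hk' : k ∈ ((R.supp t).erase i).erase j := by rw [hk]; simp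
  simp only [Finset.mem_erase, R.mem_supp] at hk'
  have S : ∀ f : ι → ℂ, ∑ x, (R.c t x : ℂ) * R.d x * f x =
      M.p t i * f i + M.p t j * f j + M.p t k * f k := by
    intro f
    rw [M.sum_supp_p, ← Finset.add_sum_erase _ _ (R.mem_supp.mpr hi),
      ← Finset.add_sum_erase _ _ (Finset.mem_erase.mpr ⟨hij.symm, R.mem_supp.mpr hj⟩), hk,
      Finset.sum_singleton]
    ring
  have S2 : ∀ f h : ι → ℂ, ∑ x, (R.c t x : ℂ) * R.d x * f x * h x =
      M.p t i * f i * h i + M.p t j * f j * h j + M.p t k * f k * h k := by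
    intro f h
    rw [Finset.sum_congr rfl (fun x _ => mul_assoc _ (f x) (h x)), S]
    ring
  have s0 : M.p t i + M.p t j + M.p t k = 0 := by
    have h := S (fun _ => 1)
    simp only [mul_one] at h
    rw [← h]
    exact_mod_cast R.deg t
  refine ⟨three_point s0 (by rw [← S]; exact M.linU t) (by rw [← S2]; exact M.momUU t),
    three_point s0 (by rw [← S]; exact M.linW t) (by rw [← S2]; exact M.momWW t), fun h => ?_⟩
  exact M.p_ne hk'.2.2 (by linear_combination s0 - h)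

theorem exists_complete {t : Fin 9} (ht : gram t t = 4) {i j : ι} (hij : i ≠ j)
    (hi : R.c t i ≠ 0) (hj : R.c t j ≠ 0) :
    ∃ k l, R.c t k ≠ 0 ∧ R.c t l ≠ 0 ∧ k ≠ i ∧ k ≠ j ∧ l ≠ i ∧ l ≠ j ∧ k ≠ l := by
  classical
  have hc : ((R.supp t).erase i |>.erase j).card = 2 := by
    have h : (R.supp t).card = 4 := by exact_mod_cast (R.card_supp t).trans ht
    rw [Finset.card_erase_of_mem (Finset.mem_erase.mpr ⟨hij.symm, R.mem_supp.mpr hj⟩),
      Finset.card_erase_of_mem (R.mem_supp.mpr hi), h]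
  obtain ⟨k, l, hkl, he⟩ := Finset.card_eq_two.mp hc
  have hk : k ∈ ((R.supp t).erase i).erase j := by rw [he]; simp
  have hl : l ∈ ((R.supp t).erase i).erase j := by rw [he]; simp
  simp only [Finset.mem_erase, R.mem_supp] at hk hl
  exact ⟨k, l, hk.2.2, hl.2.2, hk.2.1, hk.1, hl.2.1, hl.1, hkl⟩

theorem four {t : Fin 9} (ht : gram t t = 4) {i j k l : ι} (hi : R.c t i ≠ 0) (hj : R.c t j ≠ 0)
    (hk : R.c t k ≠ 0) (hl : R.c t l ≠ 0) (hij : i ≠ j) (hik : i ≠ k) (hil : i ≠ l) (hjk : j ≠ k)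
    (hjl : j ≠ l) (hkl : k ≠ l) :
    M.q t j i j i * (M.p t i * M.p t j) = M.g * det2 (lam t) * (M.p t i + M.p t j) ∧
    M.q t j i k i * M.p t i = M.g * det2 (lam t) ∧ M.q t j i l k = 0 := by
  classical
  have he : ({i, j, k, l} : Finset ι) = R.supp t := by
    refine Finset.eq_of_subset_of_card_le ?_ ?_
    · intro x hx
      simp only [Finset.mem_insert, Finset.mem_singleton] at hx
      rcases hx with rfl | rfl | rfl | rfl <;> exact R.mem_supp.mpr (by assumption)
    · have h : (R.supp t).card = 4 := by exact_mod_cast (R.card_supp t).trans ht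
      rw [h, Finset.card_insert_of_notMem (by simp [hij, hik, hil]),
        Finset.card_insert_of_notMem (by simp [hjk, hjl]),
        Finset.card_insert_of_notMem (by simp [hkl]), Finset.card_singleton]
  have S : ∀ f : ι → ℂ, ∑ x, (R.c t x : ℂ) * R.d x * f x =
      M.p t i * f i + M.p t j * f j + M.p t k * f k + M.p t l * f l := by
    intro f
    rw [M.sum_supp_p, ← he, Finset.sum_insert (by simp [hij, hik, hil]),
      Finset.sum_insert (by simp [hjk, hjl]), Finset.sum_insert (by simp [hkl]),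
      Finset.sum_singleton]
    ring
  have S2 : ∀ f h : ι → ℂ, ∑ x, (R.c t x : ℂ) * R.d x * f x * h x =
      M.p t i * f i * h i + M.p t j * f j * h j + M.p t k * f k * h k + M.p t l * f l * h l := by
    intro f h
    rw [Finset.sum_congr rfl (fun x _ => mul_assoc _ (f x) (h x)), S]
    ring
  have s0 : M.p t i + M.p t j + M.p t k + M.p t l = 0 := by
    have h := S (fun _ => 1)
    simp only [mul_one] at h
    rw [← h]
    exact_mod_cast R.deg t
  exact four_point M.g_ne (lam t) (M.p_ne hl) s0 (by rw [← S]; exact M.linU t)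
    (by rw [← S]; exact M.linW t) (by rw [← S2]; exact M.momUU t)
    (by rw [← S2]; exact M.momUW t) (by rw [← S2]; exact M.momWW t)

theorem pair {t : Fin 9} (ht : gram t t = 4) {i j : ι} (hij : i ≠ j) (hi : R.c t i ≠ 0)
    (hj : R.c t j ≠ 0) :
    M.q t j i j i * (M.p t i * M.p t j) = M.g * det2 (lam t) * (M.p t i + M.p t j) := by
  obtain ⟨k, l, hk, hl, hki, hkj, hli, hlj, hkl⟩ := exists_complete ht hij hi hj
  exact (M.four ht hi hj hk hl hij hki.symm hli.symm hkj.symm hlj.symm hkl).1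

theorem triple {t : Fin 9} (ht : gram t t = 4) {i j k : ι} (hij : i ≠ j) (hik : i ≠ k)
    (hjk : j ≠ k) (hi : R.c t i ≠ 0) (hj : R.c t j ≠ 0) (hk : R.c t k ≠ 0) :
    M.q t j i k i * M.p t i = M.g * det2 (lam t) := by
  obtain ⟨a, b, ha, hb, hai, haj, hbi, hbj, hab⟩ := exists_complete ht hij hi hj
  by_cases hka : k = a
  · subst hka
    exact (M.four ht hi hj hk hb hij hik hbi.symm hjk hbj.symm hab).2.1
  · exact (M.four ht hi hj hk ha hij hik hai.symm hjk haj.symm hka).2.1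

theorem diff_ne {t : Fin 9} (ht : gram t t = 4) (hdet : det2 (lam t) ≠ 0) {i j : ι} (hij : i ≠ j)
    (hi : R.c t i ≠ 0) (hj : R.c t j ≠ 0) (hU : M.U j = M.U i) : M.W j ≠ M.W i := by
  intro hW
  obtain ⟨k, l, hk, -, hki, hkj, -⟩ := exists_complete ht hij hi hj
  have h := M.triple ht hij hki.symm hkj.symm hi hj hk
  simp only [q, adjForm, hU, hW, sub_self, mul_zero, zero_mul, add_zero] at h
  exact mul_ne_zero M.g_ne hdet h.symm

include M in
set_option maxHeartbeats 1000000 in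
/-- The main computation. -/
theorem exists_two_of_base (B : R.Base) (hE : ∀ i, |axisComb R i| ≤ |R.d i|) :
    ∃ i, |R.d i| = 2 ∧ axisComb R i = R.d i := by
  have hg := M.g_ne
  have l2 : lam 2 = (3, 0, 0) := rfl
  have l3 : lam 3 = (0, 0, -3) := rfl
  have l4 : lam 4 = (3, 0, 9) := rfl
  have l5 : lam 5 = (0, 3, 3) := rfl
  have l6 : lam 6 = (3 / 2, 3 / 2, 9 / 2) := rfl
  have l8 : lam 8 = (0, 3, -3) := rfl
  have det4 : det2 (lam 4) = 27 := by rw [l4]; norm_num [det2]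
  have det5 : det2 (lam 5) = -9 := by rw [l5]; norm_num [det2]
  have det6 : det2 (lam 6) = 9 / 2 := by rw [l6]; norm_num [det2]
  have det8 : det2 (lam 8) = -9 := by rw [l8]; norm_num [det2]
  set da : ℂ := ((R.d B.a : ℤ) : ℂ) with hda
  set db : ℂ := ((R.d B.b : ℤ) : ℂ) with hdb
  set dk : ℂ := ((R.d B.k : ℤ) : ℂ) with hdk
  have da0 : da ≠ 0 := Int.cast_ne_zero.mpr (R.d_ne _)
  have db0 : db ≠ 0 := Int.cast_ne_zero.mpr (R.d_ne _)
  have dk0 : dk ≠ 0 := Int.cast_ne_zero.mpr (R.d_ne _)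
  have hdeg : -da + db + dk = 0 := by
    have := B.degX
    rw [hda, hdb, hdk]; exact_mod_cast this
  have hdA : ((R.d B.a' : ℤ) : ℂ) = da := by rw [B.degA]
  have hdB : ((R.d B.b' : ℤ) : ℂ) = db := by rw [B.degB]
  have lin2 : ∀ (t : Fin 9) (i j : ι), i ≠ j → (∀ x, x ≠ i → x ≠ j → R.c t x = 0) →
      R.c t i = 1 → R.c t j = -1 → R.d j = R.d i → ∀ f : ι → ℂ,
      ∑ x, (R.c t x : ℂ) * R.d x * f x = 0 → f j = f i := by
    intro t i j hij hz hi hj hd f hf
    rw [Finset.sum_eq_add i j hij (fun x _ hx => by rw [hz x hx.1 hx.2, Int.cast_zero, zero_mul,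
      zero_mul]) (by simp) (by simp), hi, hj, hd] at hf
    push_cast at hf
    have : (R.d i : ℂ) * (f i - f j) = 0 := by linear_combination hf
    exact (sub_eq_zero.mp ((mul_eq_zero.mp this).resolve_left
      (Int.cast_ne_zero.mpr (R.d_ne i)))).symm
  have Ua' : M.U B.a' = M.U B.a :=
    lin2 0 _ _ B.aa' B.A_zero B.A_a B.A_a' B.degA _ (M.linU 0)
  have Wa' : M.W B.a' = M.W B.a :=
    lin2 0 _ _ B.aa' B.A_zero B.A_a B.A_a' B.degA _ (M.linW 0)
  have Ub' : M.U B.b' = M.U B.b :=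
    lin2 1 _ _ B.bb' B.B_zero B.B_b B.B_b' B.degB _ (M.linU 1)
  have Wb' : M.W B.b' = M.W B.b :=
    lin2 1 _ _ B.bb' B.B_zero B.B_b B.B_b' B.degB _ (M.linW 1)
  have h2a : R.c 2 B.a ≠ 0 := by rw [B.X_a]; norm_num
  have h2b : R.c 2 B.b ≠ 0 := by rw [B.X_b]; norm_num
  have h2k : R.c 2 B.k ≠ 0 := by rw [B.X_k]; norm_num
  obtain ⟨Xab, Xab', -⟩ := M.three (t := 2) rfl B.ab h2a h2b
  obtain ⟨Xak, Xak', Nak⟩ := M.three (t := 2) rfl B.ak h2a h2k
  obtain ⟨Xbk, -, Nbk⟩ := M.three (t := 2) rfl B.bk h2b h2k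
  simp only [p, B.X_a, B.X_b, B.X_k, l2, ← hda, ← hdb, ← hdk, Int.cast_one, Int.cast_neg,
    neg_mul, one_mul, mul_zero, zero_mul] at Xab Xab' Xak Xak' Xbk Nak Nbk
  have Wb : M.W B.b = M.W B.a := by
    have : (M.W B.b - M.W B.a) ^ 2 = 0 := by
      refine (mul_eq_zero.mp (show (M.W B.b - M.W B.a) ^ 2 * (-(da * db)) = 0 by
        linear_combination Xab')).resolve_right (neg_ne_zero.mpr (mul_ne_zero da0 db0))
    exact sub_eq_zero.mp (pow_eq_zero_iff two_ne_zero |>.mp this)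
  have Wk : M.W B.k = M.W B.a := by
    have : (M.W B.k - M.W B.a) ^ 2 = 0 := by
      refine (mul_eq_zero.mp (show (M.W B.k - M.W B.a) ^ 2 * (-(da * dk)) = 0 by
        linear_combination Xak')).resolve_right (neg_ne_zero.mpr (mul_ne_zero da0 dk0))
    exact sub_eq_zero.mp (pow_eq_zero_iff two_ne_zero |>.mp this)
  have Ubk : M.U B.k ≠ M.U B.b := fun h => by
    rw [h, sub_self, mul_zero, zero_mul] at Xbk
    exact Nbk ((mul_eq_zero.mp Xbk.symm).resolve_left (mul_ne_zero hg (by norm_num)))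
  have noA : ∀ t : Fin 9, gram t t = 4 → det2 (lam t) ≠ 0 →
      ¬ (R.c t B.a ≠ 0 ∧ R.c t B.a' ≠ 0) :=
    fun t ht hd h => M.diff_ne ht hd B.aa' h.1 h.2 Ua' Wa'
  have noB : ∀ t : Fin 9, gram t t = 4 → det2 (lam t) ≠ 0 →
      ¬ (R.c t B.b ≠ 0 ∧ R.c t B.b' ≠ 0) :=
    fun t ht hd h => M.diff_ne ht hd B.bb' h.1 h.2 Ub' Wb'
  -- row `P`
  have hP : R.c 4 B.a = 0 ∧ R.c 4 B.b = 1 ∧ R.c 4 B.k = 0 := by
    have n1 := noA 4 rfl (by rw [det4]; norm_num)
    have n2 := noB 4 rfl (by rw [det4]; norm_num)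
    have h1 : R.c 4 B.a - R.c 4 B.a' = 0 := B.rowA 4
    have h2 : R.c 4 B.b - R.c 4 B.b' = 1 := B.rowB 4
    have h3 : -R.c 4 B.a + R.c 4 B.b + R.c 4 B.k = 1 := B.rowX 4
    have hb := R.bound 4 B.b; have hb' := R.bound 4 B.b'
    by_contra hc
    have hb0 : R.c 4 B.b' = -1 ∧ R.c 4 B.k = 1 := by omega
    have h := M.pair (t := 4) rfl B.b'k (by omega) (by omega)
    rw [det4] at h
    simp only [q, adjForm, p, hb0.1, hb0.2, Ub', Wb', Wb, Wk, l4, hdB, ← hdk, Int.cast_one,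
      Int.cast_neg] at h
    have : M.g * dk = 0 := by linear_combination (-1 / 54 : ℂ) * h - (1 / 6 : ℂ) * Xbk
    exact mul_ne_zero hg dk0 this
  obtain ⟨pa, pb, pk⟩ := hP
  -- row `Q`
  have hQ : R.c 5 B.a = 1 ∧ R.c 5 B.b = 0 ∧ R.c 5 B.k = 0 := by
    have n1 := noA 5 rfl (by rw [det5]; norm_num)
    have n2 := noB 5 rfl (by rw [det5]; norm_num)
    have h1 : R.c 5 B.a - R.c 5 B.a' = 1 := B.rowA 5
    have h2 : R.c 5 B.b - R.c 5 B.b' = 0 := B.rowB 5
    have h3 : -R.c 5 B.a + R.c 5 B.b + R.c 5 B.k = -1 := B.rowX 5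
    have hb := R.bound 5 B.a; have hb' := R.bound 5 B.a'
    by_contra hc
    have hb0 : R.c 5 B.a' = -1 ∧ R.c 5 B.k = -1 := by omega
    have h := M.pair (t := 5) rfl B.a'k (by omega) (by omega)
    rw [det5] at h
    simp only [q, adjForm, p, hb0.1, hb0.2, Ua', Wa', Wk, l5, hdA, ← hdk, Int.cast_one,
      Int.cast_neg] at h
    have : M.g * dk = 0 := by linear_combination (-1 / 18 : ℂ) * h - (1 / 6 : ℂ) * Xak
    exact mul_ne_zero hg dk0 this
  obtain ⟨qa, qb, qk⟩ := hQ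
  have co4 : R.c 4 R.o = 1 := R.c_o 4
  have co5 : R.c 5 R.o = 1 := R.c_o 5
  have co6 : R.c 6 R.o = 1 := R.c_o 6
  have do1 : ((R.d R.o : ℤ) : ℂ) = 1 := by rw [R.d_o, Int.cast_one]
  have PN := M.pair (t := 4) rfl B.ob (by omega) (by omega)
  rw [det4] at PN
  simp only [q, adjForm, p, co4, pb, Wb, l4, ← hdb, do1, Int.cast_one, one_mul] at PN
  -- row `R`
  have ra : R.c 6 B.a = 1 := by
    have n1 := noA 6 rfl (by rw [det6]; norm_num)
    have n2 := noB 6 rfl (by rw [det6]; norm_num)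
    have h1 : R.c 6 B.a - R.c 6 B.a' = 1 := B.rowA 6
    have h2 : R.c 6 B.b - R.c 6 B.b' = 0 := B.rowB 6
    have h3 : -R.c 6 B.a + R.c 6 B.b + R.c 6 B.k = -1 := B.rowX 6
    have hb := R.bound 6 B.a; have hb' := R.bound 6 B.a'
    by_contra hc
    have hb0 : R.c 6 B.a' = -1 ∧ R.c 6 B.k = -1 := by omega
    have N1 := M.pair (t := 6) rfl B.a'k (by omega) (by omega)
    have N2 := M.pair (t := 6) rfl B.oa'.symm (by omega) (by omega)
    have T := M.triple (t := 6) rfl B.a'k B.oa'.symm B.ok.symm (by omega) (by omega) (by omega)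
    rw [det6] at N1 N2 T
    simp only [q, adjForm, p, hb0.1, hb0.2, co6, Ua', Wa', Wk, l6, hdA, ← hdk, do1,
      Int.cast_one, Int.cast_neg, neg_mul, one_mul] at N1 N2 T
    obtain ⟨x, hx⟩ : ∃ x, x = M.U B.k - M.U B.a := ⟨_, rfl⟩
    obtain ⟨ox, hox⟩ : ∃ x, x = M.U R.o - M.U B.a := ⟨_, rfl⟩
    obtain ⟨oy, hoy⟩ : ∃ x, x = M.W R.o - M.W B.a := ⟨_, rfl⟩
    obtain ⟨β, hβ⟩ : ∃ x, x = M.U B.b - M.U B.a := ⟨_, rfl⟩
    rw [← hx] at N1 T Xak
    rw [← hox, ← hoy] at N2 T
    rw [show M.U B.b - M.U R.o = β - ox by rw [hβ, hox]; ring,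
      show M.W B.a - M.W R.o = -oy by rw [hoy]; ring] at PN
    have hkk : dk = 2 * da := by
      have : M.g * (dk - 2 * da) = 0 := by
        linear_combination (-1 / 9 : ℂ) * N1 - (1 / 2 : ℂ) * Xak
      exact sub_eq_zero.mp ((mul_eq_zero.mp this).resolve_left hg)
    have hbb : db = -da := by linear_combination hdeg - hkk
    rw [hkk] at N1
    have hxx : 2 * x * x * da = -3 * M.g := by
      refine mul_left_cancel₀ da0 ?_
      linear_combination (2 / 9 : ℂ) * N1
    have hx0 : x ≠ 0 := fun h => by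
      rw [h, mul_zero, zero_mul] at hxx
      exact hg (by linear_combination (1 / 3 : ℂ) * hxx)
    have hβ2 : β = 2 * x := by
      have hX := M.linU 2
      rw [M.sum_supp_p] at hX
      classical
      rw [show R.supp 2 = {B.a, B.b, B.k} by
          ext i
          rw [R.mem_supp, Finset.mem_insert, Finset.mem_insert, Finset.mem_singleton]
          refine ⟨fun hi => ?_, ?_⟩
          · by_contra hc
            simp only [not_or] at hc
            exact hi (B.X_zero i hc.1 hc.2.1 hc.2.2)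
          · rintro (rfl | rfl | rfl)
            exacts [h2a, h2b, h2k],
        Finset.sum_insert (by simp [B.ab, B.ak]), Finset.sum_insert (by simp [B.bk]),
        Finset.sum_singleton] at hX
      simp only [p, B.X_a, B.X_b, B.X_k, ← hda, ← hdb, ← hdk, Int.cast_one, Int.cast_neg] at hX
      refine mul_left_cancel₀ da0 ?_
      linear_combination -1 * hX + (M.U B.b) * hbb + (M.U B.k) * hkk + da * hβ - 2 * da * hx
    have hoy' : oy = 3 * ox - 2 * x := by
      have : x * da * (oy - (3 * ox - 2 * x)) = 0 := by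
        linear_combination (2 / 3 : ℂ) * T + hxx
      exact sub_eq_zero.mp ((mul_eq_zero.mp this).resolve_left (mul_ne_zero hx0 da0))
    rw [hoy'] at N2
    rw [hβ2, hoy', hbb] at PN
    have e1 : 6 * ox * ox - 8 * x * ox + 2 * x * x * (1 + da) = 0 := by
      have : da * (6 * ox * ox - 8 * x * ox + 2 * x * x * (1 + da)) = 0 := by
        linear_combination (-2 / 3 : ℂ) * N2 + (1 - da) * (-1) * hxx + (0 : ℂ) * hxx
      exact (mul_eq_zero.mp this).resolve_left da0
    have e2 : 6 * ox * ox - 12 * x * ox + (5 + 3 * da) * x * x = 0 := by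
      have : da * (6 * ox * ox - 12 * x * ox + (5 + 3 * da) * x * x) = 0 := by
        linear_combination (-1 / 6 : ℂ) * PN + (3 / 2 : ℂ) * (da - 1) * hxx
      exact (mul_eq_zero.mp this).resolve_left da0
    have hox4 : 4 * ox = (3 + da) * x := by
      refine mul_left_cancel₀ hx0 ?_
      linear_combination e1 - e2
    have hfin : x * x * (3 * (3 + da) * (3 + da) - 32) = 0 := by
      linear_combination 8 * e1 - (3 * (4 * ox + (3 + da) * x) - 16 * x) * hox4
    have hfin' := (mul_eq_zero.mp hfin).resolve_left (mul_ne_zero hx0 hx0)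
    rw [hda] at hfin'
    have hz : 3 * ((3 + R.d B.a) * (3 + R.d B.a)) = 32 := by
      have : ((3 * ((3 + R.d B.a) * (3 + R.d B.a)) : ℤ) : ℂ) = ((32 : ℤ) : ℂ) := by
        push_cast; linear_combination hfin'
      exact_mod_cast this
    generalize (3 + R.d B.a) * (3 + R.d B.a) = w at hz
    omega
  -- row `Y`
  have hY : R.c 3 B.a = 0 ∧ R.c 3 B.a' = 0 ∧ R.c 3 B.b = 1 ∧ R.c 3 B.b' = 0 ∧ R.c 3 B.k = 0 := by
    have n1 : ¬ (R.c 3 B.a ≠ 0 ∧ R.c 3 B.a' ≠ 0) := fun h => by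
      obtain ⟨-, h1, h2⟩ := M.three (t := 3) rfl B.aa' h.1 h.2
      rw [Wa', sub_self, mul_zero, zero_mul, l3] at h1
      exact h2 ((mul_eq_zero.mp h1.symm).resolve_left (mul_ne_zero hg (by norm_num)))
    have n2 : ¬ (R.c 3 B.b ≠ 0 ∧ R.c 3 B.b' ≠ 0) := fun h => by
      obtain ⟨-, h1, h2⟩ := M.three (t := 3) rfl B.bb' h.1 h.2
      rw [Wb', sub_self, mul_zero, zero_mul, l3] at h1
      exact h2 ((mul_eq_zero.mp h1.symm).resolve_left (mul_ne_zero hg (by norm_num)))
    have n3 : ¬ (R.c 3 B.b' ≠ 0 ∧ R.c 3 B.k ≠ 0) := fun h => by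
      obtain ⟨h1, -, -⟩ := M.three (t := 3) rfl B.b'k h.1 h.2
      rw [Ub', l3] at h1
      have h0 : (M.U B.k - M.U B.b) * (M.U B.k - M.U B.b) * (M.p 3 B.b' * M.p 3 B.k) = 0 := by
        rw [h1]; ring
      rcases mul_eq_zero.mp h0 with h0 | h0
      · exact Ubk (sub_eq_zero.mp (mul_self_eq_zero.mp h0))
      · exact mul_ne_zero (M.p_ne h.1) (M.p_ne h.2) h0
    have h1 : R.c 3 B.a - R.c 3 B.a' = 0 := B.rowA 3
    have h2 : R.c 3 B.b - R.c 3 B.b' = 1 := B.rowB 3
    have h3 : -R.c 3 B.a + R.c 3 B.b + R.c 3 B.k = 1 := B.rowX 3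
    have hb := R.bound 3 B.b; have hb' := R.bound 3 B.b'
    omega
  obtain ⟨ya, ya', yb, yb', yk⟩ := hY
  obtain ⟨h, hpos⟩ : ∃ h, 0 < R.c 3 h * R.c 5 h := by
    by_contra hc
    simp only [not_exists, not_lt] at hc
    have := Finset.sum_nonpos fun i (_ : i ∈ Finset.univ) => hc i
    rw [R.gram_eq] at this
    exact absurd this (by decide)
  have hyq : R.c 3 h = R.c 5 h ∧ R.c 3 h ≠ 0 := by
    obtain a1 | a1 | a1 := R.bound 3 h <;> obtain a2 | a2 | a2 := R.bound 5 h <;> simp_all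
  have hho : R.o ≠ h := fun e => hyq.2 (by rw [← e]; exact R.c_o 3)
  have hha : B.a ≠ h := fun e => hyq.2 (by rw [← e]; exact ya)
  have hhb : B.b ≠ h := fun e => by rw [← e, qb, mul_zero] at hpos; exact lt_irrefl _ hpos
  have h5 : R.c 5 h ≠ 0 := hyq.1 ▸ hyq.2
  -- the four points
  have QN := M.pair (t := 5) rfl B.oa (by omega) (by omega)
  have RN := M.pair (t := 6) rfl B.oa (by omega) (by omega)
  have QT := M.triple (t := 5) rfl B.oa hho hha (by omega) (by omega) h5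
  have QH := M.pair (t := 5) rfl hho (by omega) h5
  obtain ⟨YU, YW, -⟩ := M.three (t := 3) rfl hhb (by omega) hyq.2
  rw [det5] at QN QT QH
  rw [det6] at RN
  simp only [q, adjForm, p, co5, co6, qa, ra, l5, l6, ← hda, do1, Int.cast_one,
    one_mul] at QN RN QT QH
  simp only [p, yb, hyq.1, l3, ← hdb, Int.cast_one, one_mul, mul_zero, zero_mul] at YU YW
  obtain ⟨ph, hph⟩ : ∃ x, x = (R.c 5 h : ℂ) * R.d h := ⟨_, rfl⟩
  rw [← hph] at QH YU YW
  have ph0 : ph ≠ 0 := hph ▸ M.p_ne h5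
  have Uh : M.U h = M.U B.b := by
    rcases mul_eq_zero.mp YU with h0 | h0
    · exact sub_eq_zero.mp (mul_self_eq_zero.mp h0)
    · exact absurd h0 (mul_ne_zero db0 ph0)
  obtain ⟨x, hx⟩ : ∃ x, x = M.U R.o - M.U B.a := ⟨_, rfl⟩
  obtain ⟨y, hy⟩ : ∃ x, x = M.W R.o - M.W B.a := ⟨_, rfl⟩
  obtain ⟨β, hβ⟩ : ∃ x, x = M.U B.b - M.U B.a := ⟨_, rfl⟩
  obtain ⟨w, hw⟩ : ∃ x, x = M.W h - M.W B.a := ⟨_, rfl⟩
  rw [show M.U B.a - M.U R.o = -x by rw [hx]; ring,
    show M.W B.a - M.W R.o = -y by rw [hy]; ring] at QN RN QT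
  rw [show M.U h - M.U R.o = β - x by rw [Uh, hx, hβ]; ring,
    show M.W h - M.W R.o = w - y by rw [hy, hw]; ring] at QT QH
  rw [show M.U B.b - M.U R.o = β - x by rw [hx, hβ]; ring,
    show M.W B.a - M.W R.o = -y by rw [hy]; ring] at PN
  rw [show M.W h - M.W B.b = w by rw [Wb, hw]] at YW
  rw [← hβ] at Xab
  have hy2 : y = 2 * x := by
    have : da * ((y - 2 * x) * (y - 2 * x)) = 0 := by
      linear_combination (1 / 3 : ℂ) * QN + (2 / 3 : ℂ) * RN
    exact sub_eq_zero.mp (mul_self_eq_zero.mp ((mul_eq_zero.mp this).resolve_left da0))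
  subst hy2
  have hxa : x * x * da = M.g * (da + 1) := by linear_combination (2 / 9 : ℂ) * RN
  have hx0 : x ≠ 0 := fun h0 => M.diff_ne (t := 5) rfl (by rw [det5]; norm_num) B.oa.symm
    (by omega) (by omega) (sub_eq_zero.mp (hx.symm.trans h0))
    (sub_eq_zero.mp (hy.symm.trans (by rw [h0, mul_zero])))
  have hb3 : β = -x / 3 := by
    have : da * db * x * (x + 3 * β) = 0 := by
      linear_combination (-3 / 2 : ℂ) * Xab - (1 / 6 : ℂ) * da * PN + (9 / 2 : ℂ) * db * hxa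
    have := (mul_eq_zero.mp this).resolve_left (mul_ne_zero (mul_ne_zero da0 db0) hx0)
    linear_combination (1 / 3 : ℂ) * this
  subst hb3
  have hdbA : db * (28 * x * x - 27 * M.g) = 27 * M.g := by
    refine mul_left_cancel₀ da0 ?_
    linear_combination -9 * Xab + 27 * db * hxa
  have hxw : x * w = 10 * x * x / 3 - 3 * M.g := by linear_combination (1 / 3 : ℂ) * QT
  have hphB : ph * (16 * x * x - 15 * M.g) = -9 * M.g := by
    linear_combination QH - 8 * ph * hxw
  have hw2 : 9 * w * w = 20 * x * x - 18 * M.g := by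
    have h1 : db * ph * (9 * w * w) = db * ph * (20 * x * x - 18 * M.g) := by
      have : M.g * M.g * (db * ph * (9 * w * w) - db * ph * (20 * x * x - 18 * M.g)) = 0 := by
        linear_combination 9 * M.g * M.g * YW + M.g * M.g * ph * hdbA -
          3 * M.g * M.g * db * hphB
      exact sub_eq_zero.mp ((mul_eq_zero.mp this).resolve_left (mul_ne_zero hg hg))
    exact mul_left_cancel₀ (mul_ne_zero db0 ph0) h1
  have hquad : (10 * x * x - 9 * M.g) * (8 * x * x - 9 * M.g) = 0 := by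
    linear_combination x * x * hw2 - 9 * (x * w + 10 * x * x / 3 - 3 * M.g) * hxw
  rcases mul_eq_zero.mp hquad with h10 | h8
  · exfalso
    have hw0 : w = 0 := by
      have : x * w = 0 := by linear_combination hxw + (1 / 3 : ℂ) * h10
      exact (mul_eq_zero.mp this).resolve_left hx0
    rw [hw0, mul_zero, zero_mul] at YW
    obtain ⟨-, -, hne⟩ := M.three (t := 3) rfl hhb (by omega) hyq.2
    simp only [p, yb, hyq.1, ← hdb, ← hph, Int.cast_one, one_mul] at hne
    exact hne ((mul_eq_zero.mp YW.symm).resolve_left (mul_ne_zero hg (by norm_num)))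
  · have hx8 : x * x = 9 / 8 * M.g := by linear_combination (1 / 8 : ℂ) * h8
    have ea : da = 8 := by
      refine mul_left_cancel₀ hg ?_
      linear_combination 8 * hxa - 8 * da * hx8
    have eb : db = 6 := by
      refine mul_left_cancel₀ hg ?_
      linear_combination (2 / 9 : ℂ) * hdbA - (56 / 9 : ℂ) * db * hx8
    have ek : R.d B.k = 2 := by
      have : ((R.d B.k : ℤ) : ℂ) = ((2 : ℤ) : ℂ) := by
        push_cast; rw [← hdk]; linear_combination hdeg + ea - eb
      exact_mod_cast this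
    have n1 := noA 8 rfl (by rw [det8]; norm_num)
    have n2 := noB 8 rfl (by rw [det8]; norm_num)
    have t1 : R.c 8 B.a - R.c 8 B.a' = -1 := B.rowA 8
    have t2 : R.c 8 B.b - R.c 8 B.b' = 0 := B.rowB 8
    have t3 : -R.c 8 B.a + R.c 8 B.b + R.c 8 B.k = 1 := B.rowX 8
    have tb := R.bound 8 B.a; have tb' := R.bound 8 B.a'
    have hk := hE B.k
    have hval : axisComb R B.k = 2 + 3 * R.c 8 B.k := by
      simp only [axisComb, B.A_zero _ B.ak.symm B.a'k.symm, B.B_zero _ B.bk.symm B.b'k.symm,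
        B.X_k, pk, qk]
      ring
    rw [hval, ek, abs_le] at hk
    norm_num at hk
    exact ⟨B.k, by rw [ek]; rfl, by rw [hval, ek]; omega⟩

include M in
theorem exists_two (hE : ∀ i, |axisComb R i| ≤ |R.d i|) :
    ∃ i, |R.d i| = 2 ∧ axisComb R i = R.d i := by
  obtain ⟨σ, hσ, ho, ⟨B⟩⟩ := R.exists_base
  have hcomb : ∀ i, axisComb (R.flip σ hσ ho) i = σ i * axisComb R i := fun i => by
    simp only [axisComb, Rows.flip]; ring
  have habs : ∀ i, |σ i| = 1 := fun i => by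
    have := hσ i
    rcases Int.eq_one_or_neg_one_of_mul_eq_one this with h | h <;> rw [h] <;> rfl
  obtain ⟨i, h1, h2⟩ := (M.flip σ hσ ho).exists_two_of_base B (fun i => by
    rw [hcomb]
    show |σ i * _| ≤ |σ i * _|
    rw [abs_mul, abs_mul, habs, one_mul, one_mul]
    exact hE i)
  refine ⟨i, ?_, ?_⟩
  · rw [show (R.flip σ hσ ho).d i = σ i * R.d i from rfl, abs_mul, habs, one_mul] at h1
    exact h1
  · rw [hcomb, show (R.flip σ hσ ho).d i = σ i * R.d i from rfl] at h2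
    exact mul_left_cancel₀ (fun h => by have := hσ i; rw [h] at this; norm_num at this) h2

end Mom

end Cfsg.Agent.H40.Mono
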