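import Cfsg.Agent.H40.Mono.Iso
import Cfsg.Agent.H40.Exceptional.CubeMain
import Cfsg.Agent.Lib.Coprime.Generation
import Cfsg.Agent.Lib.CharCore.Linear

/-!
The kernel of an exceptional character of degree two.
-/

set_option autoImplicit false

open scoped ComplexConjugate

namespace Cfsg.Agent.H40.Mono

theorem sylow_of_normalizer {G : Type*} [Group G] [Finite G] (S : Subgroup G) {n : ℕ}
    (hS : Nat.card S = 3 ^ n) (h : ¬ 3 ^ (n + 1) ∣ Nat.card (Subgroup.normalizer (S : Set G))) :
    ∃ P : Sylow 3 G, (P : Subgroup G) = S := by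
  haveI : Fact (Nat.Prime 3) := ⟨Nat.prime_three⟩
  have hG : ¬ 3 ^ (n + 1) ∣ Nat.card G := fun hd =>
    h (Nat.modEq_zero_iff_dvd.mp ((Sylow.card_normalizer_modEq_card hS).trans
      (Nat.modEq_zero_iff_dvd.mpr hd)))
  have hle : 3 ^ n ∣ Nat.card G := hS ▸ Subgroup.card_subgroup_dvd_card S
  have hf : (Nat.card G).factorization 3 = n := by
    refine le_antisymm ?_ ((Nat.Prime.pow_dvd_iff_le_factorization Nat.prime_three
      Nat.card_pos.ne').mp hle)
    by_contra hc
    exact hG ((Nat.Prime.pow_dvd_iff_le_factorization Nat.prime_three Nat.card_pos.ne').mpr (by omega))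
  exact ⟨Sylow.ofCard S (by rw [hS, hf]), rfl⟩

theorem trans_conj (g k : K) (hk : k ∈ trans) : g * k * g⁻¹ ∈ trans := by
  have : trans.Normal := trans_eq_ker ▸ inferInstance
  exact this.conj_mem k hk g

theorem tr_axes : ∀ v : V, tr v = tr (1, 0, 0) ^ v.1.val * tr (0, 1, 0) ^ v.2.1.val *
    tr (0, 0, 1) ^ v.2.2.val := by decide +kernel

theorem trans_comm {a b : K} (ha : a ∈ trans) (hb : b ∈ trans) : a * b = b * a := by
  refine K.ext ?_ (by rw [K.mul_r, K.mul_r, mem_trans.mp ha, mem_trans.mp hb])
  rw [K.mul_v, K.mul_v, mem_trans.mp ha, mem_trans.mp hb, act_one, act_one, add_comm]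

theorem trans_pow_three {a : K} (ha : a ∈ trans) : a ^ 3 = 1 := by
  rw [show a = tr a.v from K.ext rfl (mem_trans.mp ha), pow_succ, sq, cube_trans]

universe u

variable {G : Type u} [Group G]

/-- The standing hypotheses. -/
structure Setup (f : K →* G) : Prop where
  inj : Function.Injective f
  cent : ∀ j ∈ trans.map f, j ≠ 1 → Subgroup.centralizer ({j} : Set G) ≤ f.range
  closed : ∀ j ∈ trans.map f, ∀ g : G, g * j * g⁻¹ ∈ f.range → g * j * g⁻¹ ∈ trans.map f

namespace Setup

variable {f : K →* G} (hS : Setup f)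

theorem J_le : trans.map f ≤ f.range := by
  rintro _ ⟨k, -, rfl⟩; exact ⟨k, rfl⟩

theorem card_J (hf : Function.Injective f) : Nat.card (trans.map f) = 27 := by
  rw [Subgroup.card_map_of_injective hf, card_trans]

include hS

theorem card_H : Nat.card f.range = 648 := by
  rw [← Nat.card_congr (MonoidHom.ofInjective hS.inj).toEquiv, Nat.card_eq_fintype_card, card_K]

theorem conj_J {h : G} (hh : h ∈ f.range) {j : G} (hj : j ∈ trans.map f) :
    h * j * h⁻¹ ∈ trans.map f := by
  obtain ⟨g, rfl⟩ := hh
  obtain ⟨k, hk, rfl⟩ := hj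
  exact ⟨g * k * g⁻¹, trans_conj g k hk, by simp [map_mul, map_inv]⟩

variable [Finite G]

/-- An element moving the translations into the subgroup lies in it. -/
theorem mem_of_conj_le (g : G) (hg : ∀ x ∈ trans.map f, g * x * g⁻¹ ∈ f.range) : g ∈ f.range := by
  classical
  haveI := Fintype.ofFinite G
  have hsub : ∀ x ∈ trans.map f, g * x * g⁻¹ ∈ trans.map f := fun x hx => hS.closed x hx g (hg x hx)
  set e := rep 5
  have he : e ∈ trans := rfl
  have hej : f e ∈ trans.map f := ⟨e, he, rfl⟩
  obtain ⟨x, hx, hxe⟩ := hsub _ hej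
  have hne : ∀ k : K, k ≠ 1 → f k ≠ 1 := fun k hk h => hk (hS.inj (h.trans (map_one f).symm))
  have he1 : e ≠ 1 := by decide +kernel
  have hx1 : x ≠ 1 := fun h => by
    rw [h, map_one, eq_comm, conj_eq_one_iff] at hxe
    exact hne e he1 hxe
  have hcentK : ∀ k : K, k ∈ trans → k ≠ 1 →
      Nat.card (Subgroup.centralizer ({f k} : Set G)) =
        (Finset.univ.filter fun l : K => l * k = k * l).card := by
    intro k hk hk1
    rw [← Fintype.card_subtype, ← Nat.card_eq_fintype_card]
    refine (Nat.card_congr (Equiv.ofBijective (fun l : {l : K // l * k = k * l} =>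
      (⟨f l.1, by rw [Subgroup.mem_centralizer_singleton_iff, ← map_mul, ← map_mul, l.2]⟩ :
        Subgroup.centralizer ({f k} : Set G))) ⟨fun a b h => ?_, fun y => ?_⟩)).symm
    · exact Subtype.ext (hS.inj (congrArg Subtype.val h))
    · obtain ⟨l, hl⟩ := hS.cent _ ⟨k, hk, rfl⟩ (hne k hk1) y.2
      refine ⟨⟨l, hS.inj ?_⟩, Subtype.ext hl⟩
      rw [map_mul, map_mul, hl]
      exact Subgroup.mem_centralizer_singleton_iff.mp y.2
  have hcx : Nat.card (Subgroup.centralizer ({f x} : Set G)) =
      Nat.card (Subgroup.centralizer ({f e} : Set G)) := by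
    refine (Nat.card_congr (Equiv.subtypeEquiv (MulAut.conj g).toEquiv fun y => ?_)).symm
    simp only [SetLike.mem_coe, Subgroup.mem_centralizer_singleton_iff, MulEquiv.toEquiv_eq_coe,
      MulEquiv.coe_toEquiv, MulAut.conj_apply, hxe]
    constructor
    · intro h
      calc g * y * g⁻¹ * (g * f e * g⁻¹) = g * (y * f e) * g⁻¹ := by group
        _ = g * (f e * y) * g⁻¹ := by rw [h]
        _ = _ := by group
    · intro h
      calc y * f e = g⁻¹ * (g * y * g⁻¹ * (g * f e * g⁻¹)) * g := by group
        _ = g⁻¹ * (g * f e * g⁻¹ * (g * y * g⁻¹)) * g := by rw [h]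
        _ = _ := by group
  rw [hcentK x hx hx1, hcentK e he he1, card_cent_five] at hcx
  have hxt : x = tr x.v := K.ext rfl (mem_trans.mp hx)
  have h5 : cls x = 5 := by
    rw [hxt]
    refine card_cent_axis _ (fun h => hx1 ?_) (by rw [← hxt]; exact hcx)
    rw [hxt, h]; rfl
  have hw := conj_rep x
  rw [h5] at hw
  have hc : (f (wit x))⁻¹ * g ∈ Subgroup.centralizer ({f e} : Set G) := by
    rw [Subgroup.mem_centralizer_singleton_iff]
    have : g * f e * g⁻¹ = f (wit x) * f e * (f (wit x))⁻¹ := by
      rw [← hxe]; conv_lhs => rw [← hw]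
      simp [map_mul, map_inv, e]
    calc (f (wit x))⁻¹ * g * f e = (f (wit x))⁻¹ * (g * f e * g⁻¹) * g := by group
      _ = _ := by rw [this]; group
  have h2 := hS.cent _ hej (hne e he1) hc
  have := mul_mem (⟨wit x, rfl⟩ : f (wit x) ∈ f.range) h2
  rwa [mul_inv_cancel_left] at this

theorem normalizer_le : Subgroup.normalizer ((trans.map f : Subgroup G) : Set G) ≤ f.range :=
  fun g hg => hS.mem_of_conj_le g fun x hx =>
    J_le ((Subgroup.mem_normalizer_iff.mp hg x).mp hx)

/-- A normal subgroup inside the subgroup containing the translations makes it everything. -/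
theorem top_of_normal_le {M : Subgroup G} (hM : M.Normal) (hJ : trans.map f ≤ M)
    (hle : M ≤ f.range) : f.range = ⊤ :=
  top_le_iff.mp fun g _ => hS.mem_of_conj_le g fun x hx => hle (hM.conj_mem x (hJ hx) g)

/-- A degree two character with an axis in its kernel. -/
theorem eq_top_of_kernel [Fintype G] (χ : Cfsg.IrrCharacter G) (h1 : (χ : G → ℂ) 1 = 2)
    (he : (χ : G → ℂ) (f (rep 5)) = 2) : f.range = ⊤ := by
  classical
  haveI : Fact (Nat.Prime 3) := ⟨Nat.prime_three⟩
  set M := CharCore.charKernel (CharCore.irr_isCharacter χ)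
  haveI hMn : M.Normal := CharCore.charKernel_normal _
  set N0 := M.comap f
  haveI : N0.Normal := hMn.comap f
  have hN : ∀ {k}, k ∈ N0 → ∀ g : K, g * k * g⁻¹ ∈ N0 := fun hk g =>
    Subgroup.Normal.conj_mem inferInstance _ hk g
  have h5 : rep 5 ∈ N0 := by
    show (χ : G → ℂ) (f (rep 5)) = (χ : G → ℂ) 1
    rw [he, h1]
  have hax : ∀ v : V, cls (tr v) = 5 → tr v ∈ N0 := fun v hv => by
    have := conj_rep (tr v)
    rw [hv] at this
    rw [← this]
    exact hN h5 _
  have htr : ∀ v, tr v ∈ N0 := fun v => by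
    obtain ⟨a0, a1, a2⟩ := axes_five
    rw [tr_axes v]
    exact mul_mem (mul_mem (pow_mem (hax _ a0) _) (pow_mem (hax _ a1) _)) (pow_mem (hax _ a2) _)
  have hrot : ∀ {k}, k ∈ N0 → rot k.r ∈ N0 := fun {k} hk => by
    have := mul_mem (inv_mem (htr k.v)) hk
    rwa [← eq_inv_mul_of_mul_eq (tr_mul_rot k)] at this
  have hfill : ∀ k : K, rot k.r ∈ N0 → k ∈ N0 := fun k hk => by
    rw [← tr_mul_rot k]; exact mul_mem (htr _) hk
  have hJM : trans.map f ≤ M := by
    rintro _ ⟨k, hk, rfl⟩
    show k ∈ N0
    rw [show k = tr k.v from K.ext rfl (mem_trans.mp hk)]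
    exact htr _
  have hrmul : ∀ c d, rot (c * d) = rot c * rot d := rotEmb.map_mul
  have hrinv : ∀ c, rot c⁻¹ = (rot c)⁻¹ := rotEmb.map_inv
  by_cases h3 : ∃ k ∈ N0, k.r ^ 3 = 1 ∧ k.r ≠ 1
  · exfalso
    obtain ⟨k, hk, hk3, hk1⟩ := h3
    have key : ∀ r : C, r ^ 3 = 1 → r ≠ 1 → ∀ c : C, par c = 1 → ∃ g h : C,
        c = (g * r * g⁻¹) * (h * r⁻¹ * h⁻¹) ∨ c = g * r * g⁻¹ ∨ c = g * r⁻¹ * g⁻¹ := by
      decide +kernel
    have heven : ∀ k' : K, par k'.r = 1 → k' ∈ N0 := by
      intro k' hp
      refine hfill _ ?_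
      have hr := hrot hk
      have c1 : ∀ g, rot (g * k.r * g⁻¹) ∈ N0 := fun g => by
        rw [hrmul, hrmul, hrinv]; exact hN hr _
      have c2 : ∀ g, rot (g * k.r⁻¹ * g⁻¹) ∈ N0 := fun g => by
        rw [hrmul, hrmul, hrinv, hrinv]; exact hN (inv_mem hr) _
      obtain ⟨g, h, e | e | e⟩ := key _ hk3 hk1 _ hp <;> rw [e]
      · rw [hrmul]; exact mul_mem (c1 g) (c2 h)
      exacts [c1 g, c2 g]
    have hS3 : ∀ k' : K, k' ∈ grp 2 → k' ∈ N0 := fun k' hk' => heven k' (by
      have : ∀ c : C, inStab 2 c = true → par c = 1 := by decide +kernel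
      exact this _ (mem_grp.mp hk'))
    set S := (grp 2).map f
    have hScard : Nat.card S = 3 ^ 4 := by
      rw [Subgroup.card_map_of_injective hS.inj, Nat.card_eq_fintype_card]
      decide +kernel
    have hJS : trans.map f ≤ S := Subgroup.map_mono fun x hx => mem_grp.mpr (by
      rw [mem_trans.mp hx]; decide)
    have hSH : S ≤ f.range := by rintro _ ⟨l, -, rfl⟩; exact ⟨l, rfl⟩
    have hNS : Subgroup.normalizer (S : Set G) ≤ f.range := fun g hg =>
      hS.mem_of_conj_le g fun x hx => hSH ((Subgroup.mem_normalizer_iff.mp hg x).mp (hJS hx))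
    obtain ⟨P, hP⟩ := sylow_of_normalizer S hScard (fun hd => by
      have := hd.trans (Subgroup.card_dvd_of_le hNS)
      rw [hS.card_H] at this
      norm_num at this)
    have hSM : (P : Subgroup G) ≤ M := by
      rw [hP]
      rintro _ ⟨l, hl, rfl⟩
      exact hS3 l hl
    have htop := Sylow.normalizer_sup_eq_top' P hSM
    set τ : G := f (rot ⟨4⟩)
    have hcos : ∀ g : G, g ∈ M ∨ τ⁻¹ * g ∈ M := by
      intro g
      have hg : g ∈ Subgroup.normalizer ((P : Subgroup G) : Set G) ⊔ M := htop ▸ Subgroup.mem_top g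
      obtain ⟨a, ha, m, hm, rfl⟩ := Subgroup.mem_sup_of_normal_right.mp hg
      rw [hP] at ha
      obtain ⟨l, rfl⟩ := hNS ha
      have hpar : par l.r = 1 ∨ par ((rot ⟨4⟩)⁻¹ * l).r = 1 := by
        have : ∀ c : C, par c = 1 ∨ par ((⟨4⟩ : C)⁻¹ * c) = 1 := by decide +kernel
        exact this l.r
      rcases hpar with hp | hp
      · exact Or.inl (mul_mem (show f l ∈ M from heven l hp) hm)
      · refine Or.inr ?_
        have := mul_mem (show f ((rot ⟨4⟩)⁻¹ * l) ∈ M from heven _ hp) hm
        rwa [map_mul, map_inv, mul_assoc] at this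
    have hnorm : ∑ g : G, (χ : G → ℂ) g * conj ((χ : G → ℂ) g) = (Nat.card G : ℂ) := by
      have h := (CharCore.isIrrCharacter_iff.mp χ.2).2
      unfold Cfsg.classInner at h
      have hne : (Nat.card G : ℂ) ≠ 0 := Nat.cast_ne_zero.mpr Nat.card_pos.ne'
      field_simp at h
      exact h
    have hreal : ∑ g : G, Complex.normSq ((χ : G → ℂ) g) = (Nat.card G : ℝ) := by
      have := hnorm
      simp only [Complex.mul_conj] at this
      exact_mod_cast this
    have hlow : (4 : ℝ) * (Finset.univ.filter fun g : G => g ∈ M).card ≤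
        ∑ g : G, Complex.normSq ((χ : G → ℂ) g) := by
      refine le_trans (le_of_eq ?_) (Finset.sum_le_univ_sum_of_nonneg (s := Finset.univ.filter fun g : G => g ∈ M)
        fun g => Complex.normSq_nonneg _)
      rw [Finset.sum_congr rfl fun g hg => by
        rw [show (χ : G → ℂ) g = 2 from ((Finset.mem_filter.mp hg).2).trans h1],
        Finset.sum_const, nsmul_eq_mul]
      norm_num [mul_comm]
    have hhalf : Fintype.card G ≤ 2 * (Finset.univ.filter fun g : G => g ∈ M).card := by
      refine le_trans (Finset.card_le_card (s := Finset.univ)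
        (t := (Finset.univ.filter fun g : G => g ∈ M) ∪
          (Finset.univ.filter fun g : G => g ∈ M).image (τ * ·)) fun g _ => ?_) ?_
      · rcases hcos g with h | h
        · exact Finset.mem_union_left _ (by simp [h])
        · exact Finset.mem_union_right _ (Finset.mem_image.mpr ⟨τ⁻¹ * g, by simp [h], by simp⟩)
      · refine (Finset.card_union_le _ _).trans ?_
        have := Finset.card_image_le (s := Finset.univ.filter fun g : G => g ∈ M) (f := (τ * ·))
        omega
    have hhalf' : (Fintype.card G : ℝ) ≤ 2 * (Finset.univ.filter fun g : G => g ∈ M).card := by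
      exact_mod_cast hhalf
    rw [hreal, Nat.card_eq_fintype_card] at hlow
    have : (0 : ℝ) < Fintype.card G := by exact_mod_cast Fintype.card_pos
    linarith
  · push Not at h3
    have hV4 : ∀ k ∈ N0, k.r.i.val < 4 := by
      intro k hk
      by_contra hlt
      have key : ∀ r : C, ¬ r.i.val < 4 → r ^ 3 = 1 ∧ r ≠ 1 ∨
          ∃ g, (r * (g * r * g⁻¹)) ^ 3 = 1 ∧ r * (g * r * g⁻¹) ≠ 1 := by decide +kernel
      rcases key _ hlt with ⟨a, b⟩ | ⟨g, a, b⟩
      · exact b (h3 k hk a)
      · exact b (h3 (k * (rot g * k * (rot g)⁻¹)) (mul_mem hk (hN hk _)) a)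
    have hle : M ≤ f.range := by
      set MH : Subgroup M := f.range.subgroupOf M
      set T : Subgroup M := (trans.map f).subgroupOf M
      have hTH : T ≤ MH := fun x hx => J_le hx
      have hT : Nat.card T = 27 := by
        rw [Nat.card_congr (Subgroup.subgroupOfEquivOfLe hJM).toEquiv, card_J hS.inj]
      have hC : ∀ t ∈ T, t ≠ 1 → Subgroup.centralizer ({t} : Set M) ≤ MH := by
        intro t ht ht1 y hy
        refine hS.cent (t : G) ht (fun h => ht1 (Subtype.ext h)) ?_
        rw [Subgroup.mem_centralizer_singleton_iff] at hy ⊢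
        exact congrArg Subtype.val hy
      have hNT : Subgroup.normalizer (T : Set M) = MH := by
        ext y
        rw [Subgroup.mem_normalizer_iff]
        refine ⟨fun hy => ?_, fun hy x => ⟨fun hx => ?_, fun hx => ?_⟩⟩
        · exact hS.mem_of_conj_le (y : G) fun x hx => J_le ((hy ⟨x, hJM hx⟩).mp hx)
        · exact hS.conj_J hy hx
        · have := hS.conj_J (inv_mem hy) hx
          show (x : G) ∈ trans.map f
          simpa [mul_assoc] using this
      suffices MH = ⊤ from fun x hx => by
        have : (⟨x, hx⟩ : M) ∈ MH := this ▸ Subgroup.mem_top _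
        exact this
      by_cases hv : ∃ k ∈ N0, k.r ≠ 1
      · obtain ⟨k, hk, hk1⟩ := hv
        have hall : ∀ l : K, l.r.i.val < 4 → l ∈ N0 := by
          intro l hl
          by_cases hl1 : l.r = 1
          · rw [show l = tr l.v from K.ext rfl hl1]; exact htr _
          have key : ∀ r s : C, r.i.val < 4 → s.i.val < 4 → r ≠ 1 → s ≠ 1 →
              ∃ g, g * r * g⁻¹ = s := by decide +kernel
          obtain ⟨g, hg⟩ := key _ _ (hV4 k hk) hl hk1 hl1
          refine hfill _ ?_
          rw [← hg, hrmul, hrmul, hrinv]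
          exact hN (hrot hk) _
        let h0 : Exceptional.Cube.K →* MH :=
          { toFun := fun a => ⟨⟨f (cubeHom a), hall _ (cubeHom_mem a)⟩, ⟨_, rfl⟩⟩
            map_one' := Subtype.ext (Subtype.ext (by simp))
            map_mul' := fun a b => Subtype.ext (Subtype.ext (by simp)) }
        have hbij : Function.Bijective h0 := by
          refine ⟨fun a b h => ?_, fun y => ?_⟩
          · exact cubeHom_injective (hS.inj (congrArg (fun z : MH => ((z : M) : G)) h))
          · obtain ⟨l, hl⟩ := y.2
            obtain ⟨a, rfl⟩ := mem_cubeHom l (hV4 l (by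
              show f l ∈ M
              rw [hl]; exact y.1.2))
            exact ⟨a, Subtype.ext (Subtype.ext hl)⟩
        exact Exceptional.Cube.eq_top MH (MulEquiv.ofBijective h0 hbij) T hTH hT hNT hC
      · push Not at hv
        have hMT : MH ≤ T := by
          intro y hy
          obtain ⟨l, hl⟩ := hy
          exact ⟨l, mem_trans.mpr (hv l (by show f l ∈ M; rw [hl]; exact y.2)), hl⟩
        have hNT' : Subgroup.normalizer (T : Set M) = T := hNT.trans (le_antisymm hMT hTH)
        obtain ⟨P, hP⟩ := sylow_of_normalizer T (show Nat.card T = 3 ^ 3 by rw [hT]; norm_num)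
          (fun hd => by rw [hNT', hT] at hd; norm_num at hd)
        have hcomm : ∀ a b : M, a ∈ T → b ∈ T → a * b = b * a := by
          rintro a b ⟨k, hk, hka⟩ ⟨l, hl, hlb⟩
          refine Subtype.ext ?_
          show (a : G) * b = b * a
          rw [← show f k = (a : G) from hka, ← show f l = (b : G) from hlb, ← map_mul, ← map_mul,
            trans_comm hk hl]
        have hPc : Subgroup.normalizer ((P : Subgroup M) : Set M) ≤
            Subgroup.centralizer ((P : Subgroup M) : Set M) := by
          rw [hP, hNT']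
          intro a ha
          rw [Subgroup.mem_centralizer_iff]
          exact fun b hb => hcomm b a hb ha
        set R := (MonoidHom.transferSylow P hPc).ker
        have hRc := MonoidHom.ker_transferSylow_isComplement' P hPc
        haveI : IsMulCommutative T := ⟨⟨fun a b => Subtype.ext (hcomm _ _ a.2 b.2)⟩⟩
        have hnc : ¬ IsCyclic T := by
          intro hcyc
          obtain ⟨g, hg⟩ := IsCyclic.exists_ofOrder_eq_natCard (α := T)
          obtain ⟨k, hk, hkg⟩ := g.2
          have h3' : g ^ 3 = 1 := Subtype.ext (Subtype.ext (by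
            show ((g : M) : G) ^ 3 = 1
            rw [← show f k = ((g : M) : G) from hkg, ← map_pow, trans_pow_three hk, map_one]))
          have := orderOf_dvd_of_pow_eq_one h3'
          rw [hg, hT] at this
          norm_num at this
        have hcop : (Nat.card T).Coprime (Nat.card R) := by
          rw [hT, show (27 : ℕ) = 3 ^ 3 by norm_num]
          exact Nat.Coprime.pow_left _ ((Nat.Prime.coprime_iff_not_dvd Nat.prime_three).mpr
            (MonoidHom.not_dvd_card_ker_transferSylow P hPc))
        have hTR : T ≤ Subgroup.normalizer (R : Set M) := by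
          rw [Subgroup.normalizer_eq_top_iff.mpr inferInstance]; exact le_top
        have hR : R ≤ ⊥ := Coprime.le_of_centralizer_le T R ⊥ hnc hTR hcop fun e he he1 x hx => by
          exact hRc.disjoint.le_bot ⟨hx.1, hP.symm ▸ hMT (hC e he he1 hx.2)⟩
        have hone : R = ⊥ := le_bot_iff.mp hR
        have hsup := hRc.sup_eq_top
        change R ⊔ (P : Subgroup M) = ⊤ at hsup
        rw [hone, bot_sup_eq, hP] at hsup
        exact top_le_iff.mp (hsup ▸ hTH)
    exact hS.top_of_normal_le hMn hJM hle

end Setup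

end Cfsg.Agent.H40.Mono
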