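import Mathlib
import Cfsg.Prelude
import Cfsg.Agent.H40.Mono.Chars
import Cfsg.Agent.H40.Exceptional.CubeModel
import Cfsg.Agent.Lib.Thompson.Cores

/-!
The model as a group of permutations; its largest normal 3-subgroup and a subgroup of index six.
-/

set_option autoImplicit false

namespace Cfsg.Agent.H40.Mono

/-- The nine points. -/
def pts : Fin 3 × ZMod 3 ≃ Fin 9 := finProdFinEquiv

/-- The model as permutations. -/
def toPerm : K →* Equiv.Perm (Fin 9) :=
  pts.permCongrHom.toMonoidHom.comp (Wreath.toPermHom nine nine_one nine_mul)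

theorem toPerm_injective : Function.Injective toPerm := by
  rw [injective_iff_map_eq_one]
  intro k hk
  have key : ∀ k : K, (∀ p, nine k p = p) → k = 1 := by decide +kernel
  refine key k fun p => ?_
  have h : toPerm k (pts p) = pts p := by rw [hk]; rfl
  simpa [toPerm, Equiv.permCongrHom, Equiv.permCongr_apply, Wreath.toPermHom] using h

/-- The four generators. -/
def gens : Fin 4 → K := ![tr (1, 0, 0), rot ⟨15⟩, ⟨(1, 1, 0), ⟨1⟩⟩, ⟨(0, 0, 1), ⟨11⟩⟩]

theorem toPerm_gens :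
    toPerm (gens 0) = Equiv.swap (0 : Fin 9) 1 * Equiv.swap 1 2 ∧
    toPerm (gens 1) = Equiv.swap (0 : Fin 9) 3 * Equiv.swap 3 6 *
      (Equiv.swap (1 : Fin 9) 4 * Equiv.swap 4 7) * (Equiv.swap (2 : Fin 9) 5 * Equiv.swap 5 8) ∧
    toPerm (gens 2) = Equiv.swap (0 : Fin 9) 1 * Equiv.swap 3 4 ∧
    toPerm (gens 3) = Equiv.swap (0 : Fin 9) 3 * Equiv.swap 1 4 * Equiv.swap 2 5 * Equiv.swap 6 7 := by
  decide +kernel

/-- Words in three rotations. -/
def words : List (List (Fin 3)) :=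
  [[], [1], [0, 0, 1, 0], [0, 1, 0, 0], [1, 2, 0], [2, 0, 1], [0, 0, 2], [2, 0], [1, 2], [0, 2, 0],
    [0, 2, 0, 1], [2], [1, 0], [1, 0, 1], [0, 1], [0], [1, 0, 0], [0, 0, 1], [0, 1, 0], [0, 0],
    [0, 1, 2], [0, 2], [1, 0, 2], [2, 0, 0]]

/-- The three rotations. -/
def gen3 : Fin 3 → C := ![⟨15⟩, ⟨1⟩, ⟨11⟩]

theorem word_prod : ∀ c : C, ((words.getD c.i.val []).map gen3).prod = c := by decide +kernel

theorem tr_decomp : ∀ v : V, tr v = tr (1, 0, 0) ^ v.1.val *
    (rot ⟨15⟩ * tr (1, 0, 0) * (rot ⟨15⟩)⁻¹) ^ v.2.1.val *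
      (rot ⟨15⟩ * rot ⟨15⟩ * tr (1, 0, 0) * (rot ⟨15⟩ * rot ⟨15⟩)⁻¹) ^ v.2.2.val := by
  decide +kernel

theorem rot_decomp : rot ⟨1⟩ = (tr (1, 1, 0))⁻¹ * gens 2 ∧ rot ⟨11⟩ = (tr (0, 0, 1))⁻¹ * gens 3 := by
  decide +kernel

/-- Rotations as a homomorphism. -/
def rotEmb : C →* K where
  toFun := rot
  map_one' := rfl
  map_mul' c d := K.ext (show (0 : V) = 0 + act c 0 by rw [act_zero, add_zero]) rfl

theorem gens_generate : Subgroup.closure (Set.range gens) = ⊤ := by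
  refine top_le_iff.mp fun k _ => ?_
  set S := Subgroup.closure (Set.range gens)
  have hg : ∀ i, gens i ∈ S := fun i => Subgroup.subset_closure ⟨i, rfl⟩
  have h0 : tr (1, 0, 0) ∈ S := hg 0
  have h1 : rot ⟨15⟩ ∈ S := hg 1
  have htr : ∀ v, tr v ∈ S := fun v => by
    rw [tr_decomp v]
    exact mul_mem (mul_mem (pow_mem h0 _) (pow_mem (mul_mem (mul_mem h1 h0) (inv_mem h1)) _))
      (pow_mem (mul_mem (mul_mem (mul_mem h1 h1) h0) (inv_mem (mul_mem h1 h1))) _)
  have h3 : ∀ i, rot (gen3 i) ∈ S := by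
    intro i
    fin_cases i
    · exact h1
    · show rot ⟨1⟩ ∈ S
      rw [rot_decomp.1]; exact mul_mem (inv_mem (htr _)) (hg 2)
    · show rot ⟨11⟩ ∈ S
      rw [rot_decomp.2]; exact mul_mem (inv_mem (htr _)) (hg 3)
  have hrot : rot k.r ∈ S := by
    rw [← word_prod k.r, show rot _ = rotEmb _ from rfl, map_list_prod]
    refine Subgroup.list_prod_mem _ fun x hx => ?_
    simp only [List.map_map, List.mem_map] at hx
    obtain ⟨i, -, rfl⟩ := hx
    exact h3 i
  rw [← tr_mul_rot k]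
  exact mul_mem (htr _) hrot

theorem toPerm_range :
    toPerm.range = Subgroup.closure ({Equiv.swap (0 : Fin 9) 1 * Equiv.swap 1 2,
      Equiv.swap (0 : Fin 9) 3 * Equiv.swap 3 6 * (Equiv.swap (1 : Fin 9) 4 * Equiv.swap 4 7) *
        (Equiv.swap (2 : Fin 9) 5 * Equiv.swap 5 8),
      Equiv.swap (0 : Fin 9) 1 * Equiv.swap 3 4,
      Equiv.swap (0 : Fin 9) 3 * Equiv.swap 1 4 * Equiv.swap 2 5 * Equiv.swap 6 7} :
        Set (Equiv.Perm (Fin 9))) := by
  obtain ⟨h0, h1, h2, h3⟩ := toPerm_gens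
  rw [MonoidHom.range_eq_map, ← gens_generate, MonoidHom.map_closure]
  congr 1
  ext x
  simp only [Set.mem_image, Set.mem_range, exists_exists_eq_and, Set.mem_insert_iff,
    Set.mem_singleton_iff]
  constructor
  · rintro ⟨i, rfl⟩
    fin_cases i
    exacts [Or.inl h0, Or.inr (Or.inl h1), Or.inr (Or.inr (Or.inl h2)), Or.inr (Or.inr (Or.inr h3))]
  · rintro (rfl | rfl | rfl | rfl)
    exacts [⟨0, h0⟩, ⟨1, h1⟩, ⟨2, h2⟩, ⟨3, h3⟩]

theorem rotHom_surjective : Function.Surjective rotHom := fun c => ⟨rot c, rfl⟩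

theorem trans_eq_ker : trans = rotHom.ker := rfl

theorem card_trans : Nat.card trans = 27 := by
  rw [Nat.card_eq_fintype_card]
  decide +kernel

theorem pCore_eq : Cfsg.pCore 3 K = trans := by
  haveI : Fact (Nat.Prime 3) := ⟨Nat.prime_three⟩
  refine le_antisymm ?_ (Thompson.le_pCore (trans_eq_ker ▸ inferInstance)
    (IsPGroup.of_card (n := 3) (by rw [card_trans]; norm_num)))
  intro k hk
  have hN : ((Cfsg.pCore 3 K).map rotHom).Normal :=
    Thompson.instPCoreNormal.map _ rotHom_surjective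
  have hP : IsPGroup 3 ((Cfsg.pCore 3 K).map rotHom) := Thompson.isPGroup_pCore.map _
  have cube : ∀ c ∈ (Cfsg.pCore 3 K).map rotHom, c ^ 3 = 1 := by
    intro c hc
    obtain ⟨n, hn⟩ := hP ⟨c, hc⟩
    have h1 : orderOf c ∣ 3 ^ n := orderOf_dvd_of_pow_eq_one (congrArg Subtype.val hn)
    have h2 : orderOf c ∣ 24 := by
      have := orderOf_dvd_card (x := c)
      rwa [show Fintype.card C = 24 from rfl] at this
    refine orderOf_dvd_iff_pow_eq_one.mp (Nat.Coprime.dvd_of_dvd_mul_right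
      (Nat.Coprime.coprime_dvd_left h1 (Nat.Coprime.pow_left n (by norm_num : Nat.Coprime 3 8))) ?_)
    exact h2
  by_contra hne
  have key : ∀ r : C, r ≠ 1 → r ^ 3 = 1 → ∃ g, (g * r * g⁻¹ * r⁻¹) ^ 3 ≠ 1 := by decide +kernel
  have hm : rotHom k ∈ (Cfsg.pCore 3 K).map rotHom := Subgroup.mem_map_of_mem _ hk
  obtain ⟨g, hg⟩ := key _ hne (cube _ hm)
  exact hg (cube _ (mul_mem (hN.conj_mem _ hm g) (inv_mem hm)))

open Exceptional in
/-- A coordinate of the smaller group. -/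
def coordOf : Cube.S → ZMod 3 × ZMod 3
  | DihedralGroup.r i => (i, 1)
  | DihedralGroup.sr i => (-i, 2)

open Exceptional in
/-- The image of an element of the smaller group. -/
def cubeFun (k : Cube.K) : K :=
  ⟨((coordOf (k.1 0)).1, (coordOf (k.1 1)).1, (coordOf (k.1 2)).1),
    if (coordOf (k.1 0)).2 = 1 then (if (coordOf (k.1 1)).2 = 1 then ⟨0⟩ else ⟨3⟩)
      else (if (coordOf (k.1 1)).2 = 1 then ⟨2⟩ else ⟨1⟩)⟩

theorem cubeFun_mul : ∀ a b : Exceptional.Cube.K, cubeFun (a * b) = cubeFun a * cubeFun b := by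
  decide +kernel

/-- The smaller group inside the model. -/
def cubeHom : Exceptional.Cube.K →* K := MonoidHom.mk' cubeFun cubeFun_mul

theorem cubeHom_injective : Function.Injective cubeHom := by
  rw [injective_iff_map_eq_one]
  have key : ∀ a : Exceptional.Cube.K, cubeFun a = 1 → a = 1 := by decide +kernel
  exact key

theorem cubeHom_mem : ∀ a : Exceptional.Cube.K, (cubeFun a).r.i.val < 4 := by decide +kernel

theorem mem_cubeHom : ∀ k : K, k.r.i.val < 4 → ∃ a, cubeFun a = k := by decide +kernel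

end Cfsg.Agent.H40.Mono
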