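import Mathlib
import Cfsg.Agent.H40.Mono.Values

/-!
The class algebra of the model at its two classes of involutions, and tables of inner products.
-/

set_option autoImplicit false

namespace Cfsg.Agent.H40.Mono

/-- The class with the given number. -/
def clsSet (j : Fin 14) : Finset K := Finset.univ.filter fun k => cls k = j

/-- How many products of two involutions fall in each class. -/
def hist : Fin 3 → Fin 14 → ℕ :=
  ![![27, 162, 0, 0, 0, 108, 324, 0, 0, 0, 0, 0, 108, 0],
    ![0, 0, 324, 162, 0, 0, 0, 324, 324, 324, 0, 0, 0, 0],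
    ![54, 162, 0, 0, 648, 108, 324, 0, 0, 0, 648, 648, 108, 216]]

/-- The pair of classes. -/
def pairOf : Fin 3 → Fin 14 × Fin 14 := ![(1, 1), (1, 3), (3, 3)]

theorem hist_uu : ∀ j, ((clsSet 1 ×ˢ clsSet 1).filter fun p => cls (p.1 * p.2) = j).card = hist 0 j := by
  decide +kernel

theorem hist_ut : ∀ j, ((clsSet 1 ×ˢ clsSet 3).filter fun p => cls (p.1 * p.2) = j).card = hist 1 j := by
  decide +kernel

theorem hist_tt : ∀ j, ((clsSet 3 ×ˢ clsSet 3).filter fun p => cls (p.1 * p.2) = j).card = hist 2 j := by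
  decide +kernel

theorem hist_eq (i : Fin 3) (j : Fin 14) :
    ((clsSet (pairOf i).1 ×ˢ clsSet (pairOf i).2).filter fun p => cls (p.1 * p.2) = j).card =
      hist i j := by
  fin_cases i
  exacts [hist_uu j, hist_ut j, hist_tt j]

theorem sum_pairs {M : Type*} [AddCommMonoid M] (i : Fin 3) (F : Fin 14 → M) :
    ∑ k ∈ clsSet (pairOf i).1, ∑ l ∈ clsSet (pairOf i).2, F (cls (k * l)) = ∑ j, hist i j • F j := by
  rw [← Finset.sum_product', ← Finset.sum_fiberwise _ fun p : K × K => cls (p.1 * p.2)]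
  refine Finset.sum_congr rfl fun j _ => ?_
  rw [Finset.sum_congr rfl fun p hp => by rw [(Finset.mem_filter.mp hp).2], Finset.sum_const,
    hist_eq]

/-- Doubled moments, in units of `324`. -/
def lamInt : Fin 9 → Fin 3 → ℤ :=
  ![![0, 0, 0], ![0, 0, 0], ![6, 0, 0], ![0, 0, -6], ![6, 0, 18], ![0, 6, 6], ![3, 3, 9],
    ![-3, 3, -9], ![0, 6, -6]]

theorem moment_table : ∀ t i, (∑ j, (hist i j : ℤ) * (valT t j).1) = 324 * lamInt t i ∧
    (∑ j, (hist i j : ℤ) * (valT t j).2) = 0 := by decide +kernel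

/-- The sums of products, in the form `a + b√3`. -/
def prodSum (t s : Fin 9) : ℤ × ℤ :=
  (∑ j, (size j : ℤ) * ((valT t j).1 * (valT s j).1 + 3 * ((valT t j).2 * (valT s j).2)),
    ∑ j, (size j : ℤ) * ((valT t j).1 * (valT s j).2 + (valT t j).2 * (valT s j).1))

theorem valT_low : ∀ t j, j < (5 : Fin 14) → valT t j = 0 := by decide +kernel

theorem total_table : ∀ t : Fin 9, (∑ j, (size j : ℤ) * (valT t j).1) =
    648 * ![0, 0, 0, 0, 1, 1, 1, 0, 0] t ∧ (∑ j, (size j : ℤ) * (valT t j).2) = 0 := by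
  decide +kernel

/-- Weights of the rows reading off the classes `5`, `6`, `7`. -/
def weight : Fin 3 → Fin 9 → ℤ :=
  ![![4, -3, 2, 0, 4, -3, 0, 0, 3], ![0, -1, 2, 0, 0, 1, 0, 0, -1], ![0, 0, 0, 0, 0, 0, 1, 1, 0]]

/-- The classes read off. -/
def target : Fin 3 → Fin 14 := ![5, 6, 7]

theorem weight_table : ∀ i j, (∑ t, weight i t * (valT t j).1) =
    (if j = target i then (648 / size (target i) : ℕ) else 0) ∧
    (∑ t, weight i t * (valT t j).2) = 0 := by decide +kernel

end Cfsg.Agent.H40.Mono
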