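import Cfsg.Agent.H40.Exceptional.Pairs
import Cfsg.Agent.H40.Mono.Endgame
import Cfsg.Agent.H40.Mono.Local
import Cfsg.Agent.H40.Mono.Finish

/-!
A group with a strongly closed subgroup of the shape `3³ : S₄` coincides with it.
-/

set_option autoImplicit false

open scoped ComplexConjugate

namespace Cfsg.Agent.H40.Mono

open Exceptional (Special SuppOn)

theorem gram_table : ∀ t s, prodSum t s = (648 * gram t s, 0) := by decide +kernel

theorem sum_nine {M : Type*} [AddCommMonoid M] (g : Fin 9 → M) :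
    ∑ t, g t = g 0 + g 1 + g 2 + g 3 + g 4 + g 5 + g 6 + g 7 + g 8 := by
  rw [Fin.sum_univ_castSucc, Fin.sum_univ_eight]
  rfl

theorem conj_phi (t : Fin 9) (k : K) : conj (phi t k) = phi t k := by
  simp [phi, conj_s3]

theorem phi_low {t : Fin 9} {k : K} (h : cls k < 5) : phi t k = 0 := by
  simp [phi, valT_low t _ h]

theorem sum_phi_mul (t s : Fin 9) : ∑ k : K, phi t k * phi s k = (648 * gram t s : ℤ) := by
  have h := sum_cls (fun j => ((valT t j).1 + (valT t j).2 * s3) *
    (((valT s j).1 : ℂ) + (valT s j).2 * s3))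
  refine h.trans ?_
  calc _ = ((prodSum t s).1 : ℂ) + (prodSum t s).2 * s3 := by
        simp only [prodSum, Int.cast_sum, Finset.sum_mul, ← Finset.sum_add_distrib, nsmul_eq_mul]
        refine Finset.sum_congr rfl fun j _ => ?_
        push_cast
        linear_combination ((size j : ℂ) * (valT t j).2 * (valT s j).2) * s3_sq
    _ = _ := by rw [gram_table]; push_cast; ring

theorem sum_phi (t : Fin 9) : ∑ k : K, phi t k = (648 * first t : ℤ) := by
  refine (sum_cls (fun j => ((valT t j).1 : ℂ) + (valT t j).2 * s3)).trans ?_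
  obtain ⟨h1, h2⟩ := total_table t
  have h1' : (((∑ j, (size j : ℤ) * (valT t j).1 : ℤ)) : ℂ) = ((648 * first t : ℤ) : ℂ) :=
    congrArg _ h1
  have h2' : (((∑ j, (size j : ℤ) * (valT t j).2 : ℤ)) : ℂ) = ((0 : ℤ) : ℂ) := congrArg _ h2
  push_cast at h1' h2' ⊢
  calc _ = (∑ j : Fin 14, (size j : ℂ) * ((valT t j).1 : ℂ)) +
        (∑ j : Fin 14, (size j : ℂ) * ((valT t j).2 : ℂ)) * s3 := by
          rw [Finset.sum_mul, ← Finset.sum_add_distrib]
          exact Finset.sum_congr rfl fun j _ => by rw [nsmul_eq_mul]; ring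
    _ = _ := by rw [h1', h2']; ring

theorem sum_weight (i : Fin 3) (k : K) :
    ∑ t, (weight i t : ℂ) * phi t k =
      if cls k = target i then ((648 / size (target i) : ℕ) : ℂ) else 0 := by
  obtain ⟨h1, h2⟩ := weight_table i (cls k)
  have h1' := congrArg (fun z : ℤ => (z : ℂ)) h1
  have h2' := congrArg (fun z : ℤ => (z : ℂ)) h2
  simp only [Int.cast_sum, Int.cast_mul, Int.cast_zero] at h1' h2'
  calc _ = (∑ t, (weight i t : ℂ) * (valT t (cls k)).1) +
        (∑ t, (weight i t : ℂ) * (valT t (cls k)).2) * s3 := by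
          rw [Finset.sum_mul, ← Finset.sum_add_distrib]
          exact Finset.sum_congr rfl fun t _ => by simp only [phi]; ring
    _ = _ := by rw [h1', h2', zero_mul, add_zero, Int.cast_natCast, Nat.cast_ite, Nat.cast_zero]

theorem sum_phi_pairs (t : Fin 9) (i : Fin 3) :
    ∑ k ∈ clsSet (pairOf i).1, ∑ l ∈ clsSet (pairOf i).2, phi t (k * l) =
      ((324 * lamInt t i : ℤ) : ℂ) := by
  refine (sum_pairs i (fun j => ((valT t j).1 : ℂ) + (valT t j).2 * s3)).trans ?_
  obtain ⟨h1, h2⟩ := moment_table t i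
  have h1' : (((∑ j, (hist i j : ℤ) * (valT t j).1 : ℤ)) : ℂ) = ((324 * lamInt t i : ℤ) : ℂ) :=
    congrArg _ h1
  have h2' : (((∑ j, (hist i j : ℤ) * (valT t j).2 : ℤ)) : ℂ) = ((0 : ℤ) : ℂ) := congrArg _ h2
  push_cast at h1' h2' ⊢
  calc _ = (∑ j : Fin 14, (hist i j : ℂ) * ((valT t j).1 : ℂ)) +
        (∑ j : Fin 14, (hist i j : ℂ) * ((valT t j).2 : ℂ)) * s3 := by
          rw [Finset.sum_mul, ← Finset.sum_add_distrib]
          exact Finset.sum_congr rfl fun j _ => by rw [nsmul_eq_mul]; ring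
    _ = _ := by rw [h1', h2']; ring

theorem lam_eq (t : Fin 9) : lam t = ((lamInt t 0 : ℂ) / 2, (lamInt t 1 : ℂ) / 2, (lamInt t 2 : ℂ) / 2) := by
  fin_cases t <;> simp [lam, lamInt] <;> norm_num

universe u

variable {G : Type u} [Group G]

set_option maxHeartbeats 800000 in
theorem exists_kernel_character [Fintype G] {f : K →* G} (hS : Setup f) :
    ∃ χ : Cfsg.IrrCharacter G, (χ : G → ℂ) 1 = 2 ∧ (χ : G → ℂ) (f (rep 5)) = 2 := by
  classical
  set H := f.range
  haveI : Fintype H := Fintype.ofFinite H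
  let ψ : K ≃* H := MonoidHom.ofInjective hS.inj
  have hψ : ∀ k, (ψ k : G) = f k := fun k => rfl
  have hne : ∀ k : K, k ≠ 1 → f k ≠ 1 := fun k hk h => hk (hS.inj (h.trans (map_one f).symm))
  set D : Set G := {x | ∃ k : K, f k = x ∧ 5 ≤ cls k}
  have hs : Special H D := by
    refine ⟨?_, ?_, ?_⟩
    · rintro _ ⟨k, rfl, -⟩; exact ⟨k, rfl⟩
    · rintro _ ⟨k, rfl, hk⟩ g ⟨l, hl, -⟩
      obtain ⟨ht, h1⟩ := pow_trans k hk
      set e := expo (cls k)
      have hj : f (k ^ e) ∈ trans.map f := ⟨_, ht, rfl⟩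
      have he : g * f (k ^ e) * g⁻¹ = f (l ^ e) := by
        rw [map_pow, map_pow, ← conj_pow, ← hl]
      have hj' : g * f (k ^ e) * g⁻¹ ∈ trans.map f :=
        hS.closed _ hj g (he ▸ ⟨_, rfl⟩)
      refine hS.mem_of_conj_le g fun x hx => hS.cent _ hj'
        (fun h => hne _ h1 (conj_eq_one_iff.mp h)) ?_
      obtain ⟨a, ha, rfl⟩ := hx
      rw [Subgroup.mem_centralizer_singleton_iff]
      calc g * f a * g⁻¹ * (g * f (k ^ e) * g⁻¹) = g * f (a * k ^ e) * g⁻¹ := by
            rw [map_mul]; group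
        _ = g * f (k ^ e * a) * g⁻¹ := by rw [trans_comm ha ht]
        _ = _ := by rw [map_mul]; group
    · rintro _ ⟨k, rfl, hk⟩
      exact ⟨k⁻¹, map_inv f k, cls_inv k hk⟩
  let A : Fin 9 → H → ℂ := fun t h => phi t (ψ.symm h)
  have hA : ∀ t, Cfsg.IsGeneralizedCharacter H (A t) := fun t =>
    CharCore.isGeneralized_comp (isGeneralized_phi t) ψ.symm.toMonoidHom
  have hAD : ∀ t, SuppOn H D (A t) := by
    intro t h hh
    refine phi_low (lt_of_not_ge fun hc => hh ⟨ψ.symm h, ?_, hc⟩)
    rw [← hψ, MulEquiv.apply_symm_apply]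
  have hAc := fun t => CharCore.IsGeneralizedCharacter.isClassFunction (hA t)
  have hcardH : Nat.card H = 648 := hS.card_H
  choose c hc using fun t => Exceptional.exists_coeff (G := G) (hA t)
  choose d hdpos hd using fun χ : Cfsg.IrrCharacter G => CharCore.IsIrrCharacter.exists_degree χ.2
  have hdne : ∀ χ, (d χ : ℂ) ≠ 0 := fun χ => Nat.cast_ne_zero.mpr (hdpos χ).ne'
  have hexp : ∀ t (z : G),
      Cfsg.indFun H (A t) z = ∑ χ : Cfsg.IrrCharacter G, (c t χ : ℂ) * (χ : G → ℂ) z :=
    fun t z => by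
      conv_lhs => rw [CharCore.eq_sum_classInner (CharInd.isClassFunction_indFun H (A t))]
      simp [Finset.sum_apply, smul_eq_mul, hc]
  have hcoeff : ∀ t (χ : Cfsg.IrrCharacter G),
      (c t χ : ℂ) = (∑ k : K, phi t k * conj ((χ : G → ℂ) (f k))) / 648 := by
    intro t χ
    rw [← hc t χ, CharInd.classInner_indFun_left _ _ (CharCore.irr_isClassFunction χ)]
    unfold Cfsg.classInner
    rw [hcardH, ← Equiv.sum_comp ψ.toEquiv]
    simp only [A, MulEquiv.toEquiv_eq_coe, MulEquiv.coe_toEquiv, MulEquiv.symm_apply_apply, hψ]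
    push_cast
    ring
  have hread : ∀ (i : Fin 3) (χ : Cfsg.IrrCharacter G),
      (χ : G → ℂ) (f (rep (target i))) = ((∑ t, weight i t * c t χ : ℤ) : ℂ) := by
    intro i χ
    have hkey : ∑ k : K, (∑ t, (weight i t : ℂ) * phi t k) * conj ((χ : G → ℂ) (f k)) =
        648 * conj ((χ : G → ℂ) (f (rep (target i)))) := by
      have hsz : ((648 / size (target i) : ℕ) : ℂ) * (size (target i) : ℂ) = 648 := by
        fin_cases i <;> simp [target, size] <;> norm_num
      calc _ = ∑ k ∈ clsSet (target i),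
            ((648 / size (target i) : ℕ) : ℂ) * conj ((χ : G → ℂ) (f (rep (target i)))) := by
            simp only [sum_weight, ite_mul, zero_mul, ← Finset.sum_filter]
            refine Finset.sum_congr rfl fun k hk => ?_
            have hw := conj_rep k
            rw [(Finset.mem_filter.mp hk).2] at hw
            conv_lhs => rw [← hw]
            rw [map_mul f (_ * _), map_mul f (wit k), map_inv, CharCore.irr_isClassFunction χ]
        _ = _ := by
            rw [Finset.sum_const, nsmul_eq_mul, show (clsSet (target i)).card = size (target i) from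
              card_cls _, ← mul_assoc, mul_comm (size (target i) : ℂ), hsz]
    have hrev : conj ((χ : G → ℂ) (f (rep (target i)))) = (χ : G → ℂ) (f (rep (target i))) := by
      rw [← CharCore.irr_apply_inv χ, ← map_inv]
      have hcl : cls (rep (target i))⁻¹ = target i := by
        fin_cases i <;> decide +kernel
      have hw := conj_rep (rep (target i))⁻¹
      rw [hcl] at hw
      conv_lhs => rw [← hw]
      rw [map_mul f (_ * _), map_mul f (wit _), map_inv, CharCore.irr_isClassFunction χ]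
    rw [← hrev]
    refine mul_left_cancel₀ (show (648 : ℂ) ≠ 0 by norm_num) ?_
    rw [← hkey]
    push_cast
    rw [Finset.mul_sum, Finset.sum_congr rfl fun k _ => Finset.sum_mul _ _ _, Finset.sum_comm]
    refine Finset.sum_congr rfl fun t _ => ?_
    have : (∑ k : K, phi t k * conj ((χ : G → ℂ) (f k))) = 648 * (c t χ : ℂ) := by
      rw [hcoeff]; ring
    calc _ = (weight i t : ℂ) * ∑ k : K, phi t k * conj ((χ : G → ℂ) (f k)) := by
          rw [Finset.mul_sum]; exact Finset.sum_congr rfl fun k _ => by ring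
      _ = _ := by rw [this]; ring
  let o : Cfsg.IrrCharacter G := ⟨1, CharCore.isIrrCharacter_one⟩
  have hgram : ∀ t s, ∑ χ, c t χ * c s χ = gram t s := by
    intro t s
    have h := CharCore.classInner_eq_sum (CharInd.isClassFunction_indFun H (A t))
      (CharInd.isClassFunction_indFun H (A s))
    rw [Exceptional.classInner_indFun hs (hAD t) (hAc s) (hAD s)] at h
    simp only [hc, map_intCast] at h
    have h2 : Cfsg.classInner (A t) (A s) = (gram t s : ℂ) := by
      unfold Cfsg.classInner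
      rw [hcardH, ← Equiv.sum_comp ψ.toEquiv]
      simp only [A, MulEquiv.toEquiv_eq_coe, MulEquiv.coe_toEquiv, MulEquiv.symm_apply_apply,
        conj_phi, sum_phi_mul]
      push_cast
      ring
    rw [h2] at h
    exact_mod_cast h.symm
  have hco : ∀ t, c t o = first t := by
    intro t
    have h : (c t o : ℂ) = (first t : ℂ) := by
      rw [hcoeff]
      simp only [o, Pi.one_apply, map_one, mul_one, sum_phi]
      push_cast
      ring
    exact_mod_cast h
  have hind0 : ∀ (t : Fin 9) (z : G), z * z = 1 → Cfsg.indFun H (A t) z = 0 := by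
    intro t z hz
    rw [CharInd.indFun_apply, Finset.sum_eq_zero, mul_zero]
    intro g _
    by_cases hm : g⁻¹ * z * g ∈ H
    · rw [CharInd.extendByZero_mem _ hm]
      refine hAD t _ ?_
      rintro ⟨k, hk, hk5⟩
      have hkk : k * k = 1 := hS.inj (by
        rw [map_mul, hk, map_one]
        show g⁻¹ * z * g * (g⁻¹ * z * g) = 1
        rw [show g⁻¹ * z * g * (g⁻¹ * z * g) = g⁻¹ * (z * z) * g by group, hz]
        group)
      by_cases hk1 : k = 1
      · subst hk1
        exact absurd hk5 (by decide +kernel)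
      rcases involution_cls k hkk hk1 with h | h <;> rw [h] at hk5 <;> exact absurd hk5 (by decide)
    · exact CharInd.extendByZero_notMem _ hm
  have hdeg : ∀ t, ∑ χ, c t χ * (d χ : ℤ) = 0 := by
    intro t
    have h := (hexp t 1).symm.trans (hind0 t 1 (one_mul 1))
    simp only [hd] at h
    exact_mod_cast h
  have hd_o : (d o : ℤ) = 1 := by
    have := hd o
    simp only [o, Pi.one_apply] at this
    exact_mod_cast this.symm
  let R : Rows (Cfsg.IrrCharacter G) :=
    { c := c, d := fun χ => (d χ : ℤ), o := o,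
      d_ne := fun χ => Int.natCast_ne_zero.mpr (hdpos χ).ne',
      d_o := hd_o, c_o := hco, gram_eq := hgram, deg := hdeg }
  -- the classes of involutions stay apart
  have hnc : ¬ IsConj (f (rep 1)) (f (rep 3)) := by
    intro hconj
    refine R.not_cong fun χ => ?_
    obtain ⟨o6, o61, o7, o73⟩ := order_six
    haveI : Fact (Nat.Prime 3) := ⟨Nat.prime_three⟩
    have hcong : ∀ (j : Fin 14), rep j ^ 6 = 1 → cls (rep j)⁻¹ = j → ∀ {k : ℤ},
        (χ : G → ℂ) (f (rep j)) = k → ∃ N : ℤ,
          (χ : G → ℂ) (f (rep (cls (rep j ^ 3)))) = 3 * N - 2 * k := by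
      intro j h6 hreal k hk
      obtain ⟨N, hN⟩ := SmallGroups.SelfCent.exists_sum_odd_pow_eq (p := 3) χ
        (show f (rep j) ^ (2 * 3) = 1 by rw [← map_pow, h6, map_one])
      have h5 : f (rep j) ^ (2 * 2 + 1) = f (rep j)⁻¹ := by
        rw [map_inv]
        exact eq_inv_of_mul_eq_one_left (by rw [← pow_succ, ← map_pow, h6, map_one])
      have hinv : (χ : G → ℂ) (f (rep j)⁻¹) = k := by
        have hw := conj_rep (rep j)⁻¹
        rw [hreal] at hw
        rw [← hw, map_mul f (_ * _), map_mul f (wit _), map_inv, CharCore.irr_isClassFunction χ, hk]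
      rw [Finset.sum_range_succ, Finset.sum_range_succ, Finset.sum_range_one, h5, hinv,
        mul_zero, zero_add, pow_one, hk] at hN
      refine ⟨N, ?_⟩
      have hw := conj_rep (rep j ^ 3)
      have he : (χ : G → ℂ) (f (rep (cls (rep j ^ 3)))) = (χ : G → ℂ) (f (rep j) ^ 3) := by
        rw [← map_pow]
        conv_rhs => rw [← hw]
        rw [map_mul f (_ * _), map_mul f (wit _), map_inv, CharCore.irr_isClassFunction χ]
      rw [he]
      push_cast at hN
      linear_combination hN
    obtain ⟨N, hN⟩ := hcong 6 o6 (cls_inv_six 6 (Or.inl rfl)) (hread 1 χ)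
    obtain ⟨N', hN'⟩ := hcong 7 o7 (cls_inv_six 7 (Or.inr rfl)) (hread 2 χ)
    rw [o61] at hN
    rw [o73] at hN'
    obtain ⟨w, hw⟩ := isConj_iff.mp hconj
    rw [← hw, CharCore.irr_isClassFunction χ (f (rep 1)) w, hN] at hN'
    have : 3 * N - 2 * (∑ t, weight 1 t * c t χ) = 3 * N' - 2 * (∑ t, weight 2 t * c t χ) := by
      exact_mod_cast hN'
    simp [sum_nine, weight] at this
    show (3 : ℤ) ∣ -c 1 χ + 2 * c 2 χ + c 5 χ - c 8 χ - (c 6 χ + c 7 χ)
    exact ⟨-c 1 χ + 2 * c 2 χ + c 5 χ - c 8 χ - (c 6 χ + c 7 χ) - (N - N'), by linarith⟩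
  -- the moments
  have hinv : ∀ (X Y : Fin 14), (X = 1 ∧ Y = 3) ∨ (X = 3 ∧ Y = 1) → ∀ k : K,
      BlocksCore.classInd (f (rep X)) (f k) = if cls k = X then 1 else 0 := by
    intro X Y hXY k
    have hj : ∀ l : K, IsConj (f (rep (cls l))) (f l) := fun l => by
      refine isConj_iff.mpr ⟨f (wit l), ?_⟩
      rw [← map_inv, ← map_mul, ← map_mul, conj_rep]
    have hnXY : ¬ IsConj (f (rep X)) (f (rep Y)) := by
      rcases hXY with ⟨rfl, rfl⟩ | ⟨rfl, rfl⟩
      exacts [hnc, fun h => hnc h.symm]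
    by_cases h : cls k = X
    · rw [if_pos h, BlocksCore.classInd_apply_of_isConj (h ▸ hj k)]
    · rw [if_neg h, BlocksCore.classInd_apply_of_not_isConj]
      intro hconj
      obtain ⟨g, hg⟩ := isConj_iff.mp hconj
      have hsqX : rep X * rep X = 1 ∧ rep X ≠ 1 := by
        rcases hXY with ⟨rfl, -⟩ | ⟨rfl, -⟩
        exacts [⟨rep_sq.1, rep_ne_one.1⟩, ⟨rep_sq.2, rep_ne_one.2⟩]
      have hkk : k * k = 1 := hS.inj (by
        rw [map_mul, ← hg, conj_mul, ← map_mul, hsqX.1, map_one, mul_one, mul_inv_cancel])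
      have hk1 : k ≠ 1 := fun h1 => hne _ hsqX.2 (by
        rw [h1, map_one] at hg
        exact conj_eq_one_iff.mp hg)
      have hY : cls k = Y := by
        rcases involution_cls k hkk hk1 with h' | h' <;> rcases hXY with ⟨rfl, rfl⟩ | ⟨rfl, rfl⟩ <;>
          first
          | exact h'
          | exact absurd h' h
      exact hnXY (hconj.trans (hY ▸ (hj k).symm))
  let κ : Fin 14 → ℂ := fun X => (Nat.card {x : G // IsConj (f (rep X)) x} : ℂ)
  let V : Fin 14 → Cfsg.IrrCharacter G → ℂ := fun X χ => κ X * (χ : G → ℂ) (f (rep X)) / (d χ : ℂ)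
  have hsq : ∀ X : Fin 14, X = 1 ∨ X = 3 → f (rep X) * f (rep X) = 1 := by
    rintro X (rfl | rfl) <;> rw [← map_mul]
    · rw [rep_sq.1, map_one]
    · rw [rep_sq.2, map_one]
  have hlin : ∀ t X, X = 1 ∨ X = 3 → ∑ χ, (c t χ : ℂ) * ((d χ : ℤ) : ℂ) * V X χ = 0 := by
    intro t X hX
    calc _ = κ X * ∑ χ : Cfsg.IrrCharacter G, (c t χ : ℂ) * (χ : G → ℂ) (f (rep X)) := by
          rw [Finset.mul_sum]
          exact Finset.sum_congr rfl fun χ _ => by
            have := hdne χ
            simp only [V, Int.cast_natCast]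
            field_simp
      _ = 0 := by rw [← hexp, hind0 t _ (hsq X hX), mul_zero]
  have hmom : ∀ t (i : Fin 3), ∑ χ, (c t χ : ℂ) * ((d χ : ℤ) : ℂ) * V (pairOf i).1 χ *
      V (pairOf i).2 χ = (Nat.card G : ℂ) * ((lamInt t i : ℂ) / 2) := by
    intro t i
    have hX : (pairOf i).1 = 1 ∨ (pairOf i).1 = 3 := by fin_cases i <;> simp [pairOf]
    have hY : (pairOf i).2 = 1 ∨ (pairOf i).2 = 3 := by fin_cases i <;> simp [pairOf]
    have hind : ∀ {X : Fin 14}, X = 1 ∨ X = 3 → ∀ k : K,
        BlocksCore.classInd (f (rep X)) (f k) = if cls k = X then 1 else 0 := by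
      rintro X (rfl | rfl)
      exacts [hinv 1 3 (Or.inl ⟨rfl, rfl⟩), hinv 3 1 (Or.inr ⟨rfl, rfl⟩)]
    have h := Exceptional.sum_coeff_pairs hs (hAD t) (hsq _ hX) (hsq _ hY)
    simp only [hc] at h
    have hl : ∑ χ, (c t χ : ℂ) * ((d χ : ℤ) : ℂ) * V (pairOf i).1 χ * V (pairOf i).2 χ =
        ∑ χ : Cfsg.IrrCharacter G, (c t χ : ℂ) * (κ (pairOf i).1 * κ (pairOf i).2 *
          (χ : G → ℂ) (f (rep (pairOf i).1)) * (χ : G → ℂ) (f (rep (pairOf i).2)) /
            (χ : G → ℂ) 1) :=
      Finset.sum_congr rfl fun χ _ => by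
        have := hdne χ
        simp only [V, Int.cast_natCast, hd]
        field_simp
    rw [hl, h, hcardH]
    have hsum : ∑ s : H, ∑ u : H, BlocksCore.classInd (f (rep (pairOf i).1)) (s : G) *
        BlocksCore.classInd (f (rep (pairOf i).2)) (u : G) * A t (s * u) =
        ((324 * lamInt t i : ℤ) : ℂ) := by
      rw [← sum_phi_pairs t i, clsSet, clsSet, Finset.sum_filter, ← Equiv.sum_comp ψ.toEquiv]
      refine Finset.sum_congr rfl fun k _ => ?_
      rw [← Equiv.sum_comp ψ.toEquiv, Finset.sum_filter]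
      simp only [A, MulEquiv.toEquiv_eq_coe, MulEquiv.coe_toEquiv, hψ, hind hX, hind hY,
        ← map_mul, MulEquiv.symm_apply_apply]
      by_cases h1 : cls k = (pairOf i).1
      · simp only [if_pos h1, one_mul]
        exact Finset.sum_congr rfl fun l _ => by split_ifs <;> simp
      · simp [if_neg h1]
    rw [hsum]
    push_cast
    ring
  let M : Mom R :=
    { g := (Nat.card G : ℂ)
      g_ne := Nat.cast_ne_zero.mpr Nat.card_pos.ne'
      U := V 1
      W := V 3
      linU := fun t => hlin t 1 (Or.inl rfl)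
      linW := fun t => hlin t 3 (Or.inr rfl)
      momUU := fun t => (hmom t 0).trans (by rw [lam_eq])
      momUW := fun t => (hmom t 1).trans (by rw [lam_eq])
      momWW := fun t => (hmom t 2).trans (by rw [lam_eq]) }
  have hcomb : ∀ χ : Cfsg.IrrCharacter G, (χ : G → ℂ) (f (rep 5)) = ((axisComb R χ : ℤ) : ℂ) := by
    intro χ
    refine (hread 0 χ).trans (congrArg _ ?_)
    simp [sum_nine, weight, axisComb, R]
    ring
  obtain ⟨χ, h2, hval⟩ := M.exists_two (fun χ => by
    have h := CharCore.IsCharacter.norm_apply_le (CharCore.irr_isCharacter χ) (f (rep 5))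
    rw [hcomb χ, hd χ, Complex.norm_intCast] at h
    have hdd : |R.d χ| = (d χ : ℤ) := abs_of_nonneg (Int.natCast_nonneg _)
    rw [hdd]
    have h' : ((|axisComb R χ| : ℤ) : ℝ) ≤ ((d χ : ℤ) : ℝ) := by
      push_cast
      simpa using h
    exact_mod_cast h')
  have hd2 : (d χ : ℤ) = 2 := by
    rwa [show |R.d χ| = (d χ : ℤ) from abs_of_nonneg (Int.natCast_nonneg _)] at h2
  refine ⟨χ, ?_, ?_⟩
  · rw [hd χ]
    exact_mod_cast hd2
  · rw [hcomb χ, hval, show R.d χ = (d χ : ℤ) from rfl, hd2]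
    norm_num

/-- The main theorem in terms of a copy of the model. -/
theorem eq_top [Finite G] {f : K →* G} (hS : Setup f) : f.range = ⊤ := by
  haveI := Fintype.ofFinite G
  obtain ⟨χ, h1, he⟩ := exists_kernel_character hS
  exact hS.eq_top_of_kernel χ h1 he

end Cfsg.Agent.H40.Mono
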