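import Mathlib

/-!
Nine orthogonality-constrained integer rows.
-/

set_option autoImplicit false

namespace Cfsg.Agent.H40.Mono

/-- The Gram matrix of the rows. -/
def gram : Fin 9 → Fin 9 → ℤ :=
  ![![2, 0, -1, 0, 0, 1, 1, -1, -1], ![0, 2, 1, 1, 1, 0, 0, 0, 0], ![-1, 1, 3, 1, 1, -1, -1, 1, 1],
    ![0, 1, 1, 3, 1, 1, -1, 1, -1], ![0, 1, 1, 1, 4, 1, 1, -1, -1], ![1, 0, -1, 1, 1, 4, 1, -1, -1],
    ![1, 0, -1, -1, 1, 1, 4, -1, -1], ![-1, 0, 1, 1, -1, -1, -1, 4, 1],
    ![-1, 0, 1, -1, -1, -1, -1, 1, 4]]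

/-- The first column. -/
def first : Fin 9 → ℤ := ![0, 0, 0, 0, 1, 1, 1, 0, 0]

/-- Coefficient rows with degrees. -/
structure Rows (ι : Type*) [Fintype ι] where
  c : Fin 9 → ι → ℤ
  d : ι → ℤ
  o : ι
  d_ne : ∀ i, d i ≠ 0
  d_o : d o = 1
  c_o : ∀ t, c t o = first t
  gram_eq : ∀ t s, ∑ i, c t i * c s i = gram t s
  deg : ∀ t, ∑ i, c t i * d i = 0

variable {ι : Type*} [Fintype ι]

namespace Rows

variable (R : Rows ι)

/-- Change signs of the indices other than the first. -/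
def flip (σ : ι → ℤ) (hσ : ∀ i, σ i * σ i = 1) (ho : σ R.o = 1) : Rows ι where
  c t i := σ i * R.c t i
  d i := σ i * R.d i
  o := R.o
  d_ne i := mul_ne_zero (fun h => by have := hσ i; rw [h] at this; norm_num at this) (R.d_ne i)
  d_o := by rw [ho, R.d_o, one_mul]
  c_o t := by rw [ho, R.c_o, one_mul]
  gram_eq t s := by
    rw [← R.gram_eq]
    refine Finset.sum_congr rfl fun i _ => ?_
    linear_combination (R.c t i * R.c s i) * hσ i
  deg t := by
    rw [← R.deg t]
    refine Finset.sum_congr rfl fun i _ => ?_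
    linear_combination (R.c t i * R.d i) * hσ i

theorem norm_le (t : Fin 9) (S : Finset ι) : ∑ i ∈ S, R.c t i * R.c t i ≤ gram t t := by
  rw [← R.gram_eq]
  exact Finset.sum_le_univ_sum_of_nonneg fun i => mul_self_nonneg _

theorem bound (t : Fin 9) (i : ι) : R.c t i = 0 ∨ R.c t i = 1 ∨ R.c t i = -1 := by
  classical
  have h4 : gram t t ≤ 4 := by revert t; decide
  have hrest : R.c t i * R.c t i + ∑ j ∈ Finset.univ.erase i, R.c t j * R.c t j = gram t t :=
    (Finset.add_sum_erase Finset.univ (fun j => R.c t j * R.c t j) (Finset.mem_univ i)).trans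
      (R.gram_eq t t)
  have hpos : 0 ≤ ∑ j ∈ Finset.univ.erase i, R.c t j * R.c t j :=
    Finset.sum_nonneg fun j _ => mul_self_nonneg _
  have hlo : -2 ≤ R.c t i := by nlinarith
  have hhi : R.c t i ≤ 2 := by nlinarith
  interval_cases hc : R.c t i <;> try simp
  all_goals
    exfalso
    have hz : ∀ j ∈ Finset.univ.erase i, R.c t j * R.c t j = 0 :=
      (Finset.sum_eq_zero_iff_of_nonneg fun j _ => mul_self_nonneg _).mp (by linarith)
    have hd := R.deg t
    rw [← Finset.add_sum_erase _ _ (Finset.mem_univ i), Finset.sum_eq_zero fun j hj => by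
      rw [mul_self_eq_zero.mp (hz j hj), zero_mul]] at hd
    have := R.d_ne i
    rw [hc] at hd
    omega

theorem sq_eq {t : Fin 9} {i : ι} (h : R.c t i ≠ 0) : R.c t i * R.c t i = 1 := by
  obtain h' | h' | h' := R.bound t i <;> simp_all

open scoped Classical in
/-- The support. -/
noncomputable def supp (t : Fin 9) : Finset ι := Finset.univ.filter fun i => R.c t i ≠ 0

theorem mem_supp {t : Fin 9} {i : ι} : i ∈ R.supp t ↔ R.c t i ≠ 0 := by
  classical
  simp [supp]

theorem card_supp (t : Fin 9) : ((R.supp t).card : ℤ) = gram t t := by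
  classical
  rw [← R.gram_eq t t, ← Finset.sum_subset (Finset.subset_univ (R.supp t)) (fun i _ hi => by
      rw [not_not.mp (fun hne => hi (R.mem_supp.mpr hne)), zero_mul]),
    Finset.sum_congr rfl (fun i hi => R.sq_eq (R.mem_supp.mp hi)), Finset.sum_const,
    nsmul_eq_mul, mul_one]

theorem sum_supp (t : Fin 9) (f : ι → ℤ) : ∑ i, R.c t i * f i = ∑ i ∈ R.supp t, R.c t i * f i := by
  classical
  refine (Finset.sum_subset (Finset.subset_univ _) fun i _ hi => ?_).symm
  rw [not_not.mp (fun hne => hi (R.mem_supp.mpr hne)), zero_mul]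

/-- The shape of the first three rows. -/
structure Base where
  a : ι
  a' : ι
  b : ι
  b' : ι
  k : ι
  oa : R.o ≠ a
  oa' : R.o ≠ a'
  ob : R.o ≠ b
  ob' : R.o ≠ b'
  ok : R.o ≠ k
  aa' : a ≠ a'
  ab : a ≠ b
  ab' : a ≠ b'
  ak : a ≠ k
  a'b : a' ≠ b
  a'b' : a' ≠ b'
  a'k : a' ≠ k
  bb' : b ≠ b'
  bk : b ≠ k
  b'k : b' ≠ k
  A_a : R.c 0 a = 1
  A_a' : R.c 0 a' = -1
  A_zero : ∀ i, i ≠ a → i ≠ a' → R.c 0 i = 0
  B_b : R.c 1 b = 1
  B_b' : R.c 1 b' = -1
  B_zero : ∀ i, i ≠ b → i ≠ b' → R.c 1 i = 0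
  X_a : R.c 2 a = -1
  X_b : R.c 2 b = 1
  X_k : R.c 2 k = 1
  X_zero : ∀ i, i ≠ a → i ≠ b → i ≠ k → R.c 2 i = 0

theorem pair_row {t : Fin 9} (ht : gram t t = 2) :
    ∃ p q, p ≠ q ∧ R.c t p ≠ 0 ∧ R.c t q ≠ 0 ∧ ∀ i, i ≠ p → i ≠ q → R.c t i = 0 := by
  classical
  have h := R.card_supp t
  rw [ht] at h
  obtain ⟨p, q, hpq, he⟩ := Finset.card_eq_two.mp (by exact_mod_cast h : (R.supp t).card = 2)
  refine ⟨p, q, hpq, R.mem_supp.mp (by simp [he]), R.mem_supp.mp (by simp [he]),
    fun i hi hi' => ?_⟩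
  by_contra hne
  have := R.mem_supp.mpr hne
  simp [he, hi, hi'] at this

theorem oriented {t : Fin 9} (ht : gram t t = 2) {v : ℤ} (hv : v = 1 ∨ v = -1)
    (hX : gram t 2 = v) : ∃ p q, p ≠ q ∧ R.c t p ≠ 0 ∧ R.c t q ≠ 0 ∧
      (∀ i, i ≠ p → i ≠ q → R.c t i = 0) ∧ R.c 2 p = v * R.c t p ∧ R.c 2 q = 0 := by
  classical
  obtain ⟨p, q, hpq, hp, hq, hz⟩ := R.pair_row ht
  have h := R.gram_eq t 2
  rw [Finset.sum_eq_add p q hpq (fun i _ hi => by rw [hz i hi.1 hi.2, zero_mul])
    (by simp) (by simp), hX] at h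
  obtain h1 | h1 | h1 := R.bound t p <;> obtain h2 | h2 | h2 := R.bound t q <;>
    first
    | exact absurd h1 hp
    | exact absurd h2 hq
    | (rw [h1, h2] at h
       obtain h3 | h3 | h3 := R.bound 2 p <;> obtain h4 | h4 | h4 := R.bound 2 q <;>
         rw [h3, h4] at h <;> rcases hv with rfl | rfl <;>
         first
         | (exfalso; omega)
         | exact ⟨p, q, hpq, hp, hq, hz, by rw [h3, h1]; norm_num, h4⟩
         | exact ⟨q, p, hpq.symm, hq, hp, fun i hi hi' => hz i hi' hi, by rw [h4, h2]; norm_num, h3⟩)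

theorem exists_base : ∃ (σ : ι → ℤ) (hσ : ∀ i, σ i * σ i = 1) (ho : σ R.o = 1),
    Nonempty (R.flip σ hσ ho).Base := by
  classical
  obtain ⟨a, a', haa', ha, ha', hA, hXa, hXa'⟩ :=
    R.oriented (t := 0) (v := -1) (by decide) (Or.inr rfl) (by decide)
  obtain ⟨b, b', hbb', hb, hb', hB, hXb, hXb'⟩ :=
    R.oriented (t := 1) (v := 1) (by decide) (Or.inl rfl) (by decide)
  have h01 := R.gram_eq 0 1
  rw [Finset.sum_eq_add a a' haa' (fun i _ hi => by rw [hA i hi.1 hi.2, zero_mul])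
    (by simp) (by simp)] at h01
  have hdA := R.deg 0
  rw [Finset.sum_eq_add a a' haa' (fun i _ hi => by rw [hA i hi.1 hi.2, zero_mul])
    (by simp) (by simp)] at hdA
  have hdB := R.deg 1
  rw [Finset.sum_eq_add b b' hbb' (fun i _ hi => by rw [hB i hi.1 hi.2, zero_mul])
    (by simp) (by simp)] at hdB
  rw [show gram 0 1 = 0 from rfl] at h01
  have hdis : R.c 1 a = 0 ∧ R.c 1 a' = 0 := by
    by_contra hc
    have h1a : R.c 1 a ≠ 0 := fun h => hc ⟨h, by
      rw [h, mul_zero, zero_add] at h01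
      exact (mul_eq_zero.mp h01).resolve_left ha'⟩
    have h1a' : R.c 1 a' ≠ 0 := fun h => by
      rw [h, mul_zero, add_zero] at h01
      exact mul_ne_zero ha h1a h01
    have h2 : R.c 1 a * R.d a + R.c 1 a' * R.d a' = 0 := by
      have h := R.deg 1
      rwa [Finset.sum_eq_add a a' haa' (fun i _ hi => ?_) (by simp) (by simp)] at h
      have hab : ∀ x, R.c 1 x ≠ 0 → x = b ∨ x = b' := fun x hx => by
        by_contra h
        rw [not_or] at h
        exact hx (hB x h.1 h.2)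
      rcases hab a h1a with rfl | rfl <;> rcases hab a' h1a' with rfl | rfl
      all_goals first
        | exact absurd rfl haa'
        | (rw [hB i (by tauto) (by tauto), zero_mul])
    have key : (R.c 0 a' * R.c 1 a - R.c 1 a' * R.c 0 a) * R.d a' = 0 := by
      linear_combination R.c 1 a * hdA - R.c 0 a * h2
    have key' := (mul_eq_zero.mp key).resolve_right (R.d_ne a')
    have h3 : R.c 0 a' * (R.c 1 a * R.c 1 a + R.c 1 a' * R.c 1 a') = 0 := by
      linear_combination R.c 1 a * key' + R.c 1 a' * h01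
    have h4 := (mul_eq_zero.mp h3).resolve_left ha'
    have := mul_self_pos.mpr h1a
    have := mul_self_nonneg (R.c 1 a')
    omega
  have hab : a ≠ b := fun h => hb (h ▸ hdis.1)
  have hab' : a ≠ b' := fun h => hb' (h ▸ hdis.1)
  have ha'b : a' ≠ b := fun h => hb (h ▸ hdis.2)
  have ha'b' : a' ≠ b' := fun h => hb' (h ▸ hdis.2)
  have hX2 : R.c 2 a ≠ 0 := by rw [hXa]; exact mul_ne_zero (by norm_num) ha
  have hX1 : R.c 2 b ≠ 0 := by rw [hXb]; exact mul_ne_zero (by norm_num) hb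
  have hcard : (((R.supp 2).erase a).erase b).card = 1 := by
    have h : (R.supp 2).card = 3 := by exact_mod_cast (R.card_supp 2).trans (show gram 2 2 = 3 from rfl)
    rw [Finset.card_erase_of_mem (Finset.mem_erase.mpr ⟨hab.symm, R.mem_supp.mpr hX1⟩),
      Finset.card_erase_of_mem (R.mem_supp.mpr hX2), h]
  obtain ⟨k, hk⟩ := Finset.card_eq_one.mp hcard
  have hk' : k ∈ ((R.supp 2).erase a).erase b := by rw [hk]; simp
  simp only [Finset.mem_erase, R.mem_supp] at hk'
  obtain ⟨hkb, hka, hk2⟩ := hk'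
  have hX : ∀ i, i ≠ a → i ≠ b → i ≠ k → R.c 2 i = 0 := by
    intro i h1 h2 h3
    by_contra hne
    have : i ∈ ((R.supp 2).erase a).erase b := by simp [h1, h2, R.mem_supp, hne]
    rw [hk] at this
    simp [h3] at this
  have hka' : a' ≠ k := fun h => hk2 (h ▸ hXa')
  have hkb' : b' ≠ k := fun h => hk2 (h ▸ hXb')
  have ho : ∀ {t : Fin 9} {i : ι}, first t = 0 → R.c t i ≠ 0 → R.o ≠ i := fun h0 hi h =>
    hi (h ▸ (R.c_o _).trans h0)
  let σ : ι → ℤ := fun i => if i = a then R.c 0 a else if i = a' then -R.c 0 a'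
    else if i = b then R.c 1 b else if i = b' then -R.c 1 b' else if i = k then R.c 2 k else 1
  have hσ : ∀ i, σ i * σ i = 1 := by
    intro i
    simp only [σ]
    split_ifs
    · exact R.sq_eq ha
    · rw [neg_mul_neg]; exact R.sq_eq ha'
    · exact R.sq_eq hb
    · rw [neg_mul_neg]; exact R.sq_eq hb'
    · exact R.sq_eq hk2
    · rfl
  have hoa := ho (t := 0) rfl ha
  have hoa' := ho (t := 0) rfl ha'
  have hob := ho (t := 1) rfl hb
  have hob' := ho (t := 1) rfl hb'
  have hok := ho (t := 2) rfl hk2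
  refine ⟨σ, hσ, by simp [σ, hoa, hoa', hob, hob', hok], ⟨
    { a, a', b, b', k
      oa := hoa, oa' := hoa', ob := hob, ob' := hob', ok := hok
      aa' := haa', ab := hab, ab' := hab', ak := hka.symm
      a'b := ha'b, a'b' := ha'b', a'k := hka'
      bb' := hbb', bk := hkb.symm, b'k := hkb'
      A_a := ?_, A_a' := ?_, A_zero := ?_, B_b := ?_, B_b' := ?_, B_zero := ?_
      X_a := ?_, X_b := ?_, X_k := ?_, X_zero := ?_ }⟩⟩
  · show σ a * R.c 0 a = 1
    simp [σ, R.sq_eq ha]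
  · show σ a' * R.c 0 a' = -1
    simp [σ, haa'.symm, R.sq_eq ha']
  · intro i h1 h2
    show σ i * _ = 0
    rw [hA i h1 h2, mul_zero]
  · show σ b * R.c 1 b = 1
    simp [σ, hab.symm, ha'b.symm, R.sq_eq hb]
  · show σ b' * R.c 1 b' = -1
    simp [σ, hab'.symm, ha'b'.symm, hbb'.symm, R.sq_eq hb']
  · intro i h1 h2
    show σ i * _ = 0
    rw [hB i h1 h2, mul_zero]
  · show σ a * R.c 2 a = -1
    simp [σ, hXa, R.sq_eq ha]
  · show σ b * R.c 2 b = 1
    simp [σ, hab.symm, ha'b.symm, hXb, R.sq_eq hb]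
  · show σ k * R.c 2 k = 1
    simp [σ, hka, hka'.symm, hkb, hkb'.symm, R.sq_eq hk2]
  · intro i h1 h2 h3
    show σ i * _ = 0
    rw [hX i h1 h2 h3, mul_zero]

namespace Base

variable {R} (B : R.Base)

theorem dotA (f : ι → ℤ) : ∑ i, R.c 0 i * f i = f B.a - f B.a' := by
  rw [Finset.sum_eq_add B.a B.a' B.aa'
    (fun i _ hi => by rw [B.A_zero i hi.1 hi.2, zero_mul]) (by simp) (by simp), B.A_a, B.A_a']
  ring

theorem dotB (f : ι → ℤ) : ∑ i, R.c 1 i * f i = f B.b - f B.b' := by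
  rw [Finset.sum_eq_add B.b B.b' B.bb'
    (fun i _ hi => by rw [B.B_zero i hi.1 hi.2, zero_mul]) (by simp) (by simp), B.B_b, B.B_b']
  ring

theorem dotX (f : ι → ℤ) : ∑ i, R.c 2 i * f i = -f B.a + f B.b + f B.k := by
  classical
  rw [← Finset.sum_subset (Finset.subset_univ ({B.a, B.b, B.k} : Finset ι)) (fun i _ hi => by
      simp only [Finset.mem_insert, Finset.mem_singleton, not_or] at hi
      rw [B.X_zero i hi.1 hi.2.1 hi.2.2, zero_mul]),
    Finset.sum_insert (by simp [B.ab, B.ak]), Finset.sum_insert (by simp [B.bk]),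
    Finset.sum_singleton, B.X_a, B.X_b, B.X_k]
  ring

include B in
theorem degA : R.d B.a' = R.d B.a := by
  have := (B.dotA R.d).symm.trans (R.deg 0)
  linarith

include B in
theorem degB : R.d B.b' = R.d B.b := by
  have := (B.dotB R.d).symm.trans (R.deg 1)
  linarith

theorem degX : -R.d B.a + R.d B.b + R.d B.k = 0 := (B.dotX R.d).symm.trans (R.deg 2)

theorem rowA (t : Fin 9) : R.c t B.a - R.c t B.a' = gram 0 t :=
  (B.dotA _).symm.trans (R.gram_eq 0 t)

theorem rowB (t : Fin 9) : R.c t B.b - R.c t B.b' = gram 1 t :=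
  (B.dotB _).symm.trans (R.gram_eq 1 t)

theorem rowX (t : Fin 9) : -R.c t B.a + R.c t B.b + R.c t B.k = gram 2 t :=
  (B.dotX _).symm.trans (R.gram_eq 2 t)

end Base

/-- The inner products with the third of the difference of the indicator rows. -/
def wdot : Fin 9 → ℤ := ![0, 0, 1, 1, 1, 1, -1, -1, -1]

theorem wdot_eq : ∀ t,
    -gram 1 t + 2 * gram 2 t + gram 5 t - gram 8 t - (gram 6 t + gram 7 t) = 3 * wdot t := by
  decide

/-- The two indicator combinations are incongruent modulo three. -/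
theorem Base.not_cong {R : Rows ι} (B : R.Base) :
    ¬ ∀ i, (3 : ℤ) ∣ -R.c 1 i + 2 * R.c 2 i + R.c 5 i - R.c 8 i - (R.c 6 i + R.c 7 i) := by
  classical
  intro h
  choose w hw using h
  have hlin : ∀ f : ι → ℤ, 3 * ∑ i, w i * f i = -∑ i, R.c 1 i * f i + 2 * ∑ i, R.c 2 i * f i +
      ∑ i, R.c 5 i * f i - ∑ i, R.c 8 i * f i - (∑ i, R.c 6 i * f i + ∑ i, R.c 7 i * f i) := by
    intro f
    simp only [Finset.mul_sum, ← Finset.sum_neg_distrib, ← Finset.sum_add_distrib,
      ← Finset.sum_sub_distrib]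
    exact Finset.sum_congr rfl fun i _ => by linear_combination -(f i) * hw i
  have hG : ∀ t, ∑ i, R.c t i * w i = wdot t := by
    intro t
    have h3 := hlin (R.c t)
    rw [R.gram_eq, R.gram_eq, R.gram_eq, R.gram_eq, R.gram_eq, R.gram_eq] at h3
    rw [wdot_eq] at h3
    rw [Finset.sum_congr rfl fun i _ => mul_comm (R.c t i) (w i)]
    linarith
  have hnorm : ∑ i, w i * w i = 2 := by
    have h3 := hlin w
    rw [hG, hG, hG, hG, hG, hG] at h3
    simp only [show wdot 1 = 0 from rfl, show wdot 2 = 1 from rfl, show wdot 5 = 1 from rfl,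
      show wdot 8 = -1 from rfl, show wdot 6 = -1 from rfl, show wdot 7 = -1 from rfl] at h3
    linarith
  have hdeg : ∑ i, w i * R.d i = 0 := by
    have h3 := hlin R.d
    rw [R.deg, R.deg, R.deg, R.deg, R.deg, R.deg] at h3
    linarith
  have hwo : w R.o = 0 := by
    have := hw R.o
    rw [R.c_o, R.c_o, R.c_o, R.c_o, R.c_o, R.c_o] at this
    simp only [show first 1 = 0 from rfl, show first 2 = 0 from rfl, show first 5 = 1 from rfl,
      show first 8 = 0 from rfl, show first 6 = 1 from rfl, show first 7 = 0 from rfl] at this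
    linarith
  have hwa : w B.a' = w B.a := by have := (B.dotA w).symm.trans (hG 0); norm_num [wdot] at this; linarith
  have hwb : w B.b' = w B.b := by have := (B.dotB w).symm.trans (hG 1); norm_num [wdot] at this; linarith
  have hbd : ∀ i, -1 ≤ w i ∧ w i ≤ 1 := fun i => by
    have := Finset.single_le_sum (f := fun i => w i * w i) (fun y _ => mul_self_nonneg (w y))
      (Finset.mem_univ i)
    simp only [hnorm] at this
    constructor <;> nlinarith
  have hpair : ∀ p q, p ≠ q → w p ≠ 0 → w q = w p → R.d q = R.d p → False := by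
    intro p q hpq hp hq hd
    have hz : ∀ i, i ≠ p ∧ i ≠ q → w i = 0 := by
      intro i hi
      by_contra hne
      have := Finset.sum_le_univ_sum_of_nonneg (f := fun i => w i * w i) (s := {p, q, i})
        (fun y => mul_self_nonneg (w y))
      rw [Finset.sum_insert (by simp [hpq, hi.1.symm]), Finset.sum_insert (by simp [hi.2.symm]),
        Finset.sum_singleton, hnorm, hq] at this
      have h1 : w p * w p ≠ 0 := mul_self_ne_zero.mpr hp
      have h2 : w i * w i ≠ 0 := mul_self_ne_zero.mpr hne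
      have := mul_self_nonneg (w p)
      have := mul_self_nonneg (w i)
      omega
    rw [Finset.sum_eq_add p q hpq (fun i _ hi => by rw [hz i hi, zero_mul]) (by simp) (by simp),
      hq, hd] at hdeg
    exact mul_ne_zero hp (R.d_ne p) (by linarith)
  have hwa0 : w B.a = 0 := by
    by_contra h0
    exact hpair B.a B.a' B.aa' h0 hwa B.degA
  have hwb0 : w B.b = 0 := by
    by_contra h0
    exact hpair B.b B.b' B.bb' h0 hwb B.degB
  have hwk : w B.k = 1 := by
    have := (B.dotX w).symm.trans (hG 2)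
    simp only [show wdot 2 = 1 from rfl, hwa0, hwb0] at this
    linarith
  have hrest : ∑ i ∈ Finset.univ.erase B.k, w i * w i = 1 := by
    have := Finset.add_sum_erase Finset.univ (fun i => w i * w i) (Finset.mem_univ B.k)
    simp only [hnorm, hwk] at this
    linarith
  obtain ⟨e, hek, he0⟩ : ∃ e, e ≠ B.k ∧ w e ≠ 0 := by
    by_contra hc
    push_neg at hc
    rw [Finset.sum_eq_zero fun i hi => by rw [hc i (Finset.mem_erase.mp hi).1, zero_mul]] at hrest
    norm_num at hrest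
  have hwe : w e * w e = 1 := by
    have := hbd e
    obtain h | h | h : w e = 0 ∨ w e = 1 ∨ w e = -1 := by omega
    · exact absurd h he0
    all_goals rw [h]; norm_num
  have hwz : ∀ i, i ≠ B.k ∧ i ≠ e → w i = 0 := by
    intro i hi
    by_contra hne
    have := Finset.sum_le_univ_sum_of_nonneg (f := fun i => w i * w i) (s := {B.k, e, i})
      (fun y => mul_self_nonneg (w y))
    rw [Finset.sum_insert (by simp [hek.symm, hi.1.symm]), Finset.sum_insert (by simp [hi.2.symm]),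
      Finset.sum_singleton, hnorm, hwk, hwe] at this
    have := mul_self_pos.mpr hne
    omega
  have hwsum : ∀ f : ι → ℤ, ∑ i, w i * f i = f B.k + w e * f e := fun f => by
    rw [Finset.sum_eq_add B.k e hek.symm (fun i _ hi => by rw [hwz i hi, zero_mul]) (by simp)
      (by simp), hwk, one_mul]
  have hW : ∀ t, R.c t B.k + w e * R.c t e = wdot t := fun t => by
    rw [← hwsum (R.c t), ← hG t]
    exact Finset.sum_congr rfl fun i _ => mul_comm _ _
  have hde : R.d B.k + w e * R.d e = 0 := (hwsum R.d).symm.trans hdeg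
  have eo : e ≠ R.o := fun h => he0 (h ▸ hwo)
  have ea : e ≠ B.a := fun h => he0 (h ▸ hwa0)
  have ea' : e ≠ B.a' := fun h => he0 (h ▸ hwa.trans hwa0)
  have eb : e ≠ B.b := fun h => he0 (h ▸ hwb0)
  have eb' : e ≠ B.b' := fun h => he0 (h ▸ hwb.trans hwb0)
  have split : ∀ f : ι → ℤ, ∑ i, f i = f R.o + f B.a + f B.a' + f B.b + f B.b' + f B.k + f e +
      ∑ i ∈ Finset.univ \ {R.o, B.a, B.a', B.b, B.b', B.k, e}, f i := by
    intro f
    rw [← Finset.sum_sdiff (Finset.subset_univ ({R.o, B.a, B.a', B.b, B.b', B.k, e} : Finset ι)),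
      Finset.sum_insert (by simp [B.oa, B.oa', B.ob, B.ob', B.ok, eo.symm]),
      Finset.sum_insert (by simp [B.aa', B.ab, B.ab', B.ak, ea.symm]),
      Finset.sum_insert (by simp [B.a'b, B.a'b', B.a'k, ea'.symm]),
      Finset.sum_insert (by simp [B.bb', B.bk, eb.symm]),
      Finset.sum_insert (by simp [B.b'k, eb'.symm]),
      Finset.sum_insert (by simp [hek.symm]), Finset.sum_singleton]
    ring
  have hbe : ∀ t, -1 ≤ w e * R.c t e ∧ w e * R.c t e ≤ 1 := fun t => by
    have := hbd e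
    obtain h | h | h := R.bound t e <;> rw [h] <;> omega
  have hsqe : ∀ t, R.c t e * R.c t e = (w e * R.c t e) * (w e * R.c t e) := fun t => by
    linear_combination -(R.c t e * R.c t e) * hwe
  set Z := Finset.univ \ ({R.o, B.a, B.a', B.b, B.b', B.k, e} : Finset ι) with hZdef
  have hnn : ∀ t, 0 ≤ ∑ i ∈ Z, R.c t i * R.c t i := fun t =>
    Finset.sum_nonneg fun i _ => mul_self_nonneg _
  have hsmall : ∀ {x : ℤ}, x = 0 ∨ x = 1 ∨ x = -1 → -1 ≤ x ∧ x ≤ 1 := by intros; omega
  have hQ : R.c 5 B.a = 1 ∧ R.c 5 B.a' = 0 ∧ R.c 5 B.b = 0 ∧ R.c 5 B.b' = 0 ∧ R.c 5 B.k = 0 ∧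
      w e * R.c 5 e = 1 ∧ ∑ i ∈ Z, R.c 5 i * R.c 5 i = 1 := by
    have h := (split fun i => R.c 5 i * R.c 5 i).symm.trans (R.gram_eq 5 5)
    simp only [hsqe, R.c_o] at h
    have h1 := B.rowA 5; have h2 := B.rowB 5; have h3 := B.rowX 5; have h4 := hW 5
    have hn := hnn 5
    have ba := hsmall (R.bound 5 B.a); have ba' := hsmall (R.bound 5 B.a')
    have bb := hsmall (R.bound 5 B.b); have bk := hsmall (R.bound 5 B.k); have be := hbe 5
    generalize ∑ i ∈ Z, R.c 5 i * R.c 5 i = r at h hn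
    simp only [gram, first, wdot, Matrix.cons_val, Matrix.cons_val_zero, Matrix.cons_val_one,
      Fin.isValue] at h h1 h2 h3 h4
    generalize R.c 5 B.a = qa, R.c 5 B.a' = qa', R.c 5 B.b = qb, R.c 5 B.b' = qb', R.c 5 B.k = qk,
      w e * R.c 5 e = qe at *
    obtain rfl : qa' = qa - 1 := by omega
    obtain rfl : qb = qb' := by omega
    obtain rfl : qk = qa - qb - 1 := by omega
    obtain rfl : qe = 1 - (qa - qb - 1) := by omega
    obtain ⟨rfl, rfl⟩ : qa = 1 ∧ qb = 0 := by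
      obtain ⟨a1, a2⟩ := ba
      obtain ⟨b1, b2⟩ := bb
      interval_cases qa <;> interval_cases qb <;> norm_num at * <;> omega
    norm_num at h ⊢
    linarith
  have hYP : ∀ t : Fin 9, t = 3 ∨ t = 4 → R.c t B.a = 0 ∧ R.c t B.a' = 0 ∧
      ((R.c t B.b = 1 ∧ R.c t B.b' = 0 ∧ R.c t B.k = 0 ∧ w e * R.c t e = 1) ∨
        (R.c t B.b = 0 ∧ R.c t B.b' = -1 ∧ R.c t B.k = 1 ∧ w e * R.c t e = 0)) ∧
      ∑ i ∈ Z, R.c t i * R.c t i = 1 := by
    intro t ht
    have h := (split fun i => R.c t i * R.c t i).symm.trans (R.gram_eq t t)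
    simp only [hsqe, R.c_o] at h
    have hgo : gram t t - first t * first t = 3 := by rcases ht with rfl | rfl <;> rfl
    have hgv : gram 0 t = 0 ∧ gram 1 t = 1 ∧ gram 2 t = 1 ∧ wdot t = 1 := by
      rcases ht with rfl | rfl <;> exact ⟨rfl, rfl, rfl, rfl⟩
    have h1 := B.rowA t; have h2 := B.rowB t; have h3 := B.rowX t; have h4 := hW t
    rw [hgv.1] at h1; rw [hgv.2.1] at h2; rw [hgv.2.2.1] at h3; rw [hgv.2.2.2] at h4
    have hn := hnn t
    have ba := hsmall (R.bound t B.a); have bb := hsmall (R.bound t B.b)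
    have bb' := hsmall (R.bound t B.b'); have bk := hsmall (R.bound t B.k); have be := hbe t
    generalize ∑ i ∈ Z, R.c t i * R.c t i = r at h hn ⊢
    generalize R.c t B.a = qa, R.c t B.a' = qa', R.c t B.b = qb, R.c t B.b' = qb', R.c t B.k = qk,
      w e * R.c t e = qe at *
    generalize gram t t = g, first t * first t = f at *
    obtain rfl : qa' = qa := by omega
    obtain rfl : qb' = qb - 1 := by omega
    obtain rfl : qk = 1 + qa' - qb := by omega
    obtain rfl : qe = 1 - (1 + qa' - qb) := by omega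
    obtain ⟨a1, a2⟩ := ba
    obtain ⟨b1, b2⟩ := bb
    interval_cases qa' <;> interval_cases qb <;> norm_num at * <;> omega
  obtain ⟨qa, qa', qb, qb', qk, qe, qZ⟩ := hQ
  obtain ⟨ya, ya', yc, yZ⟩ := hYP 3 (Or.inl rfl)
  obtain ⟨pa, pa', pc, pZ⟩ := hYP 4 (Or.inr rfl)
  have single : ∀ t, ∑ i ∈ Z, R.c t i * R.c t i = 1 →
      ∃ x ∈ Z, R.c t x * R.c t x = 1 ∧ ∀ i ∈ Z, i ≠ x → R.c t i = 0 := by
    intro t ht
    obtain ⟨x, hx, hxne⟩ := Finset.exists_ne_zero_of_sum_ne_zero (ht.trans_ne one_ne_zero)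
    have hx1 : R.c t x ≠ 0 := fun h0 => hxne (by rw [h0, mul_zero])
    refine ⟨x, hx, R.sq_eq hx1, fun i hi hix => ?_⟩
    by_contra hne
    have := Finset.sum_le_sum_of_subset_of_nonneg (f := fun i => R.c t i * R.c t i)
      (s := {x, i}) (t := Z) (by simp [Finset.insert_subset_iff, hx, hi])
      (fun y _ _ => mul_self_nonneg _)
    rw [Finset.sum_pair hix.symm, R.sq_eq hx1, R.sq_eq hne, ht] at this
    omega
  obtain ⟨x, hxZ, hx1, hx0⟩ := single 4 pZ
  obtain ⟨z, hzZ, hz1, hz0⟩ := single 3 yZ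
  obtain ⟨v, hvZ, hv1, hv0⟩ := single 5 qZ
  have rest : ∀ (t : Fin 9) (y : ι), y ∈ Z → (∀ i ∈ Z, i ≠ y → R.c t i = 0) → ∀ f : ι → ℤ,
      ∑ i, R.c t i * f i = R.c t R.o * f R.o + R.c t B.a * f B.a + R.c t B.a' * f B.a' +
        R.c t B.b * f B.b + R.c t B.b' * f B.b' + R.c t B.k * f B.k + R.c t e * f e +
        R.c t y * f y := fun t y hy hy0 f => by
    rw [split, Finset.sum_eq_single y (fun i hi hne => by rw [hy0 i hi hne, zero_mul])
      (fun h => absurd hy h)]
  have he2 : ∀ t s, R.c t e * R.c s e = (w e * R.c t e) * (w e * R.c s e) := fun t s => by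
    linear_combination -(R.c t e * R.c s e) * hwe
  have dPY := (rest 4 x hxZ hx0 (R.c 3)).symm.trans (R.gram_eq 4 3)
  have dPQ := (rest 4 x hxZ hx0 (R.c 5)).symm.trans (R.gram_eq 4 5)
  have dYQ := (rest 3 z hzZ hz0 (R.c 5)).symm.trans (R.gram_eq 3 5)
  simp only [he2, R.c_o] at dPY dPQ dYQ
  simp only [gram, first, qa, qa', qb, qb', qk, qe, ya, ya', pa, pa', Matrix.cons_val,
    Matrix.cons_val_zero, Matrix.cons_val_one, Fin.isValue, mul_zero, zero_mul, mul_one, one_mul,
    add_zero, zero_add] at dPY dPQ dYQ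
  have same : ∀ {s : Fin 9} {y y' : ι}, y ∈ Z → (∀ i ∈ Z, i ≠ y' → R.c s i = 0) →
      R.c s y ≠ 0 → y = y' := fun hy h hne => by
    by_contra hyy
    exact hne (h _ hy hyy)
  rcases pc with ⟨p1, p2, p3, p4⟩ | ⟨p1, p2, p3, p4⟩ <;>
    rcases yc with ⟨y1, y2, y3, y4⟩ | ⟨y1, y2, y3, y4⟩ <;>
    simp only [p1, p2, p3, p4, y1, y2, y3, y4, mul_zero, zero_mul, mul_one, one_mul, add_zero,
      zero_add, neg_mul, mul_neg, neg_neg, neg_zero] at dPY dPQ dYQ
  · have exz : x = z := same hxZ hz0 (fun h => by rw [h, mul_zero] at dPY; norm_num at dPY)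
    have exv : x = v := same hxZ hv0 (fun h => by rw [h, mul_zero] at dPQ; norm_num at dPQ)
    subst exz exv
    have : R.c 3 x * R.c 5 x = 0 := by linarith
    rcases mul_eq_zero.mp this with h | h
    · rw [h] at hz1; norm_num at hz1
    · rw [h] at hv1; norm_num at hv1
  · have exz : x = z := same hxZ hz0 (fun h => by rw [h, mul_zero] at dPY; norm_num at dPY)
    subst exz
    have h1 : R.c 4 x * R.c 3 x = 1 := by linarith
    have h2 : R.c 3 x * R.c 5 x = 1 := by linarith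
    have h3 : R.c 4 x * R.c 5 x = -1 := by linarith
    have : (R.c 4 x * R.c 3 x) * (R.c 3 x * R.c 5 x) = (R.c 4 x * R.c 5 x) := by
      linear_combination (R.c 4 x * R.c 5 x) * hz1
    rw [h1, h2, h3] at this
    norm_num at this
  · have exz : x = z := same hxZ hz0 (fun h => by rw [h, mul_zero] at dPY; norm_num at dPY)
    subst exz
    have h1 : R.c 4 x * R.c 3 x = 1 := by linarith
    have hP := (rest 4 x hxZ hx0 R.d).symm.trans (R.deg 4)
    have hY := (rest 3 x hxZ hz0 R.d).symm.trans (R.deg 3)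
    have hPx : R.c 4 x = R.c 3 x := by linear_combination R.c 3 x * h1 - R.c 4 x * hz1
    have hPe : R.c 4 e = 0 := (mul_eq_zero.mp p4).resolve_left he0
    have hYe : R.c 3 e * R.d e = -R.d B.k := by
      linear_combination (w e * R.c 3 e) * hde - (R.c 3 e * R.d e) * hwe - R.d B.k * y4
    rw [R.c_o, pa, pa', p1, p2, p3, hPe, hPx] at hP
    rw [R.c_o, ya, ya', y1, y2, y3, hYe] at hY
    rw [show first 4 = 1 from rfl] at hP
    rw [show first 3 = 0 from rfl] at hY
    have hb := B.degB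
    have ho := R.d_o
    omega
  · have exz : x = z := same hxZ hz0 (fun h => by rw [h, mul_zero] at dPY; norm_num at dPY)
    subst exz
    have h2 : R.c 3 x * R.c 5 x = 1 := by linarith
    have h1 : R.c 4 x * R.c 3 x = -1 := by linarith
    have h3 : R.c 4 x * R.c 5 x = 0 := by linarith
    have : (R.c 4 x * R.c 3 x) * (R.c 3 x * R.c 5 x) = (R.c 4 x * R.c 5 x) := by
      linear_combination (R.c 4 x * R.c 5 x) * hz1
    rw [h1, h2, h3] at this
    norm_num at this

theorem not_cong :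
    ¬ ∀ i, (3 : ℤ) ∣ -R.c 1 i + 2 * R.c 2 i + R.c 5 i - R.c 8 i - (R.c 6 i + R.c 7 i) := by
  obtain ⟨σ, hσ, ho, ⟨B⟩⟩ := R.exists_base
  intro h
  refine B.not_cong fun i => ?_
  show (3 : ℤ) ∣ -(σ i * _) + 2 * (σ i * _) + σ i * _ - σ i * _ - (σ i * _ + σ i * _)
  have := (h i).mul_left (σ i)
  simpa [mul_add, mul_sub, mul_neg, mul_left_comm (σ i) (2 : ℤ)] using this

end Rows

end Cfsg.Agent.H40.Mono
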